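import Cfsg.Agent.SUE.G3
import Cfsg.Agent.SPU.M1
import Cfsg.Agent.SPN.P1b
import Cfsg.Agent.SPN.KIT
import Cfsg.Agent.SPN.K4
import Cfsg.Agent.Class.FieldIso
import Cfsg.Agent.Class.PGL2Borel

set_option autoImplicit false
set_option linter.unusedSectionVars false
set_option linter.unusedVariables false

namespace Cfsg.Lib.SPU

open Subgroup Module Cfsg.Lib.Trans Cfsg.Lib.Gold Cfsg.Lib.Class.Form Cfsg.Lib.Class.FAut
open Cfsg.Lib.SG2 (Uq Top)

variable {G F M K N : Type*} [Group G] [Finite G] [Field F] [Finite F] [AddCommGroup M]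
  [Module F M] [FiniteDimensional F M] [Field K] [Finite K] [AddCommGroup N] [Module K N]
  [FiniteDimensional K N] {σ : K →+* K} {B : M →ₗ[F] M →ₗ[F] F} {Bh : N →ₛₗ[σ] N →ₗ[K] K}
  {ρ : F →+* K} {β : F} {γ : K} {j : M →+ N} {v : N} {ι : sIsom B →* sIsom Bh}
  {φ : sIsom B →* G} {t : G} {ψ : sIsom Bh →* G} {X : Subgroup G}

theorem EU.map_center {A C : Type*} [Group A] [Group C] (e : A ≃* C) :
    (center A).map (e : A →* C) = center C := by
  ext y
  simp only [mem_map, mem_center_iff]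
  constructor
  · rintro ⟨z, hz, rfl⟩ g
    obtain ⟨g, rfl⟩ := e.surjective g
    exact (map_mul e _ _).symm.trans ((congrArg e (hz g)).trans (map_mul e _ _))
  · intro hy
    refine ⟨e.symm y, fun g => ?_, e.apply_symm_apply y⟩
    obtain ⟨g, rfl⟩ := e.symm.surjective g
    rw [← map_mul, hy, map_mul]

theorem EU.kk_eq (h : EU φ t ψ ι ρ β γ j v) : UM.kk K N = UM.kk F M := by
  by_cases e : v = 0
  · have := h.rf.rank0 e
    rw [UM.kk, this]
    omega
  · have := h.rf.rank1 e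
    rw [UM.kk, this]
    omega

theorem EU.ue (h : EU φ t ψ ι ρ β γ j v) : ∃ α Γ, SUE.UE ψ t α Γ := by
  obtain ⟨α, Γ, k1, k2, k3, k4⟩ := h.act
  have r := h.rf
  have m := r.sp
  have mo := r.mo
  refine ⟨α, Γ, h.md, h.t2, k1, k2, h.nL, h.toH1.odd_Cs ?_ h.cO
    (h.nL (mem_centralizer_singleton_iff.2 rfl)) fun c => mo.sg_ne ?_, fun A hA hle => ?_,
    fun ev => ?_, ?_⟩
  · rintro _ ⟨g, rfl⟩
    exact ⟨_, h.res g⟩
  · rw [← k2.fa_eq mo, k1.uniq h.md (UM.Mp.of_Cs c), mo.fa_one]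
  · rw [h.kk_eq, r.toQE.qn]
    exact (h.toHyp.jl hA hle).1
  · obtain rfl : v = 0 := by
      by_contra e
      rw [r.rank1 e] at ev
      exact absurd (Nat.even_iff.1 ev) (by omega)
    have key : ∀ x, Γ x = x → ∃ u, x = j u := fun x hx => by
      obtain ⟨u, w, rfl⟩ := r.co0 x
      rw [map_add, k2.smul, k3, k3, mo.sg_apply, r.sγ, add_smul, one_smul, add_right_inj,
        add_eq_left] at hx
      exact ⟨u, by rw [hx, smul_zero, add_zero]⟩
    refine ⟨fun x hx => ?_, fun x hx x0 => ?_⟩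
    · obtain ⟨u, rfl⟩ := key x hx
      exact r.iso u
    · obtain ⟨u, rfl⟩ := key x hx
      have := h.em.tT r u 1
      rw [map_one] at this
      rw [← this, h.res]
      exact h.nb rfl u fun e => x0 (by rw [e, map_zero])
  · obtain ⟨u, u0⟩ := m.exists_ne
    obtain ⟨w, p2⟩ := m.ext2 u0
    obtain ⟨x, p3⟩ := m.ext3 p2
    obtain ⟨f, hf⟩ := m.ext_fr (e := ![u, w, x]) (fun i j => by
      fin_cases i <;> fin_cases j <;>
        simp [m.alt, p3.uw, p3.ux, p3.wx, m.swap p3.uw, m.swap p3.ux, m.swap p3.wx]) p3.li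
    refine ⟨fun i => j (![u, w, x] i), fun i => j (f i), ⟨fun a b => ?_, fun a b => ?_,
      fun a b => ?_⟩, fun i => ⟨k3 _, k3 _⟩⟩
    · rw [r.form, hf.ee, map_zero]
    · rw [r.form, hf.ff, map_zero]
    · rw [r.form, hf.ef]
      split_ifs <;> simp

theorem EU.iso (h : EU φ t ψ ι ρ β γ j v) (hX : Top X t) : SPN.LU X F (finrank K N) := by
  classical
  obtain ⟨α, Γ, k⟩ := h.ue
  have e := k.eq hX
  have := Fintype.ofFinite K
  have hK : Fintype.card K = Nat.card F ^ 2 := by rw [← Nat.card_eq_fintype_card, h.rf.toQE.card]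
  obtain ⟨i, -⟩ := UM.KIT.iso h.md e
  obtain ⟨s⟩ := h.rf.mo.toHerm.nonempty_sIsom_equiv_SU hK rfl
  obtain ⟨K', _, _, c, ⟨f⟩⟩ := Class.exists_small_field K
  have := hX.simple
  have z : center X = ⊥ := (center X).normal_of_characteristic.eq_bot_or_eq_top.resolve_right
    fun c => by
      have h1 : X ≤ Cs X := fun x hx => UM.KIT.mem_center.1 (c.ge (mem_top (⟨x, hx⟩ : X)))
      have h2 : X = ⊥ := by
        rw [← hX.perf]
        exact commutator_eq_bot_iff_le_centralizer.2 h1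
      exact h.t1 (by
        obtain ⟨u, u0⟩ := h.rf.sp.exists_ne
        have : ψ (ι (UM.tT B u 1)) ∈ X := e.le ⟨_, rfl⟩
        rw [h2, mem_bot, h.res] at this
        exact absurd (h.inj (this.trans (map_one φ).symm)) (h.rf.sp.tT_ne u0 one_ne_zero))
  exact .inr ⟨K', inferInstance, inferInstance, by rw [c, h.rf.toQE.card],
    ⟨(((QuotientGroup.quotientBot.symm.trans (QuotientGroup.quotientMulEquivOfEq z.symm)).trans
      i.symm).trans (QuotientGroup.congr _ _ s (EU.map_center s))).trans (Class.psuEquiv _ _ f)⟩⟩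

end Cfsg.Lib.SPU
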