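import Cfsg.Agent.SUE.Defs
import Cfsg.Agent.UM.K0

/-!
# The order of the unitary group and of its Sylow 2-subgroup
-/

set_option autoImplicit false
set_option linter.unusedSectionVars false
set_option linter.unusedVariables false

namespace Cfsg.Lib.SUE

open Subgroup Module Cfsg.Lib.Trans Cfsg.Lib.Gold Cfsg.Lib.Class.Form Cfsg.Lib.Class.FAut
open Cfsg.Lib.UM (Mo tT tE I2 I3 Fr3 Mx VW RR QW Fx St Semi Mp sg qn kk fa)
open Cfsg.Lib.AE (Cn)
open Cfsg.Lib.SG2 (Uq Top)
open Cfsg.Lib.Comp (Tw)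
open scoped commutatorElement

theorem M7.ch (n : ℕ) : (n + 1).choose 2 = n + n.choose 2 := by
  rw [Nat.choose_succ_succ, Nat.choose_one_right]

theorem M7.gu {q : ℕ} (hq : 2 ≤ q) (n : ℕ) :
    q ^ n.choose 2 ∣ guOrder q n ∧ guOrder q n ≤ q ^ (2 * n.choose 2 + 2 * n) := by
  induction n with
  | zero => simp [guOrder_zero]
  | succ n ih =>
    have h1 : q ^ (n + 1) + 1 ≤ q ^ (n + 2) := by
      have : 1 ≤ q ^ (n + 1) := Nat.one_le_pow _ _ (by omega)
      rw [pow_succ q (n + 1)]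
      nlinarith
    have h2 : ∃ c, c ≤ q ^ (n + 2) ∧ guOrder q (n + 1) = q ^ n * c * guOrder q n := by
      rw [guOrder_succ]
      split_ifs
      · exact ⟨_, by omega, rfl⟩
      · exact ⟨_, h1, rfl⟩
    obtain ⟨c, hc, e⟩ := h2
    rw [e, M7.ch]
    refine ⟨?_, ?_⟩
    · rw [pow_add]
      exact mul_dvd_mul (dvd_mul_right _ _) ih.1
    · calc _ ≤ q ^ n * q ^ (n + 2) * q ^ (2 * n.choose 2 + 2 * n) := by gcongr; exact ih.2
        _ = _ := by ring

theorem M7.big {n : ℕ} (hn : 6 ≤ n) : 15 ≤ n.choose 2 ∧ 2 * n ≤ n.choose 2 := by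
  induction n, hn using Nat.le_induction with
  | base => decide
  | succ n hn ih => rw [M7.ch]; omega

theorem M7.fac {n : ℕ} (hn : 15 ≤ n) : 2 * 8 ^ n < (n + 2).factorial := by
  induction n, hn using Nat.le_induction with
  | base => decide
  | succ n hn ih =>
    rw [Nat.factorial_succ (n + 2), pow_succ]
    nlinarith

section Model
variable {E M : Type*} [Field E] [Finite E] [AddCommGroup M] [Module E M] [FiniteDimensional E M]
  {σ : E →+* E} {B : M →ₛₗ[σ] M →ₗ[E] E} {u x y : M} {U : Subgroup (sIsom B)} {W : Submodule E M}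
  {e f : Fin 3 → M} {α : MulAut (sIsom B)} {Γ : M ≃+ M}

theorem m_card (h : Mo B) (hU : IsSylowIn 2 U ⊤) :
    2 ^ 15 ≤ Nat.card U ∧ Nat.card (⊤ : Subgroup (sIsom B)) ≤ Nat.card U ^ 3 := by
  have := Fintype.ofFinite E
  have h6 := h.six
  have hc := Herm.card_sIsom (Nat.card_eq_fintype_card.symm.trans h.card_E) h.toHerm rfl (by omega)
  obtain ⟨g1, g2⟩ := M7.gu h.two_le (finrank E M)
  obtain ⟨b1, b2⟩ := M7.big h6
  obtain ⟨n, n1, hn⟩ := h.q_pow
  have h2 := h.two_le
  rw [← hc] at g1 g2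
  rw [← card_top] at g1 g2
  have h3 : qn σ ^ (finrank E M).choose 2 ≤ Nat.card U := by
    have := (Nat.Coprime.pow_left _ (by simp)).dvd_of_dvd_mul_left g1
    rw [hn, ← pow_mul] at this ⊢
    rw [hU.card_eq]
    exact Nat.pow_le_pow_right (by omega)
      ((Nat.prime_two.pow_dvd_iff_le_factorization Nat.card_pos.ne').1 this)
  refine ⟨((Nat.pow_le_pow_left h2 _).trans (Nat.pow_le_pow_right (by omega) b1)).trans h3, ?_⟩
  calc _ ≤ (qn σ + 1) * Nat.card (⊤ : Subgroup (sIsom B)) := Nat.le_mul_of_pos_left _ (by omega)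
    _ ≤ (qn σ ^ (finrank E M).choose 2) ^ 3 := by
      rw [← pow_mul]
      exact g2.trans (Nat.pow_le_pow_right (by omega) (by omega))
    _ ≤ _ := Nat.pow_le_pow_left h3 _

theorem nalt {G : Type*} [Group G] [Finite G] {L S : Subgroup G} (h : IsSylowIn 2 S L)
    (h1 : 2 ^ 15 ≤ Nat.card S) (h2 : Nat.card L ≤ Nat.card S ^ 3) (m : ℕ) :
    IsEmpty (L ≃* alternatingGroup (Fin m)) := by
  refine ⟨fun e => ?_⟩
  have hd : 2 ^ (Nat.card L).factorization 2 ∣ Nat.card L := Nat.ordProj_dvd _ _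
  rw [h.card_eq] at h1 h2
  generalize (Nat.card L).factorization 2 = n at h1 h2 hd
  have hn : 15 ≤ n := (Nat.pow_le_pow_iff_right (by omega)).1 h1
  rw [Nat.card_congr e.toEquiv] at hd h2
  have hm : 2 ≤ m := by
    by_contra hm
    have : Subsingleton (Fin m) := Fin.subsingleton_iff_le_one.2 (by omega)
    rw [Nat.card_of_subsingleton (1 : alternatingGroup (Fin m)), Nat.dvd_one, Nat.pow_eq_one] at hd
    omega
  have : Nontrivial (Fin m) := Fin.nontrivial_iff_two_le.2 hm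
  have h4 := two_mul_nat_card_alternatingGroup (α := Fin m)
  rw [Nat.card_perm, Nat.card_fin] at h4
  have h5 : n + 1 < m := by
    have := Nat.emultiplicity_two_factorial_lt (n := m) (by omega)
    have h6 := le_emultiplicity_of_pow_dvd (show 2 ^ (n + 1) ∣ m.factorial by
      rw [← h4, pow_succ']; exact mul_dvd_mul_left 2 hd)
    exact_mod_cast h6.trans_lt this
  have h7 := M7.fac hn
  have h8 := Nat.factorial_le (show n + 2 ≤ m by omega)
  rw [← pow_mul, mul_comm, pow_mul, show 2 ^ 3 = 8 from rfl] at h2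
  omega

end Model

end Cfsg.Lib.SUE
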