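import Cfsg.Agent.SUE.CL1
import Cfsg.Agent.UM.OUT
import Cfsg.Agent.UM.K4

/-!
# Every involution of the unitary group is conjugate into the centraliser of a graph automorphism
-/

set_option autoImplicit false
set_option linter.unusedSectionVars false
set_option linter.unusedVariables false

namespace Cfsg.Lib.SUE

open Subgroup Module Cfsg.Lib.Trans Cfsg.Lib.Gold Cfsg.Lib.Class.Form Cfsg.Lib.Class.FAut
open Cfsg.Lib.UM (Mo tT tE I2 I3 Fr3 Mx VW RR QW Fx St Semi Mp sg qn kk fa)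
open Cfsg.Lib.AE (Cn)
open Cfsg.Lib.SG2 (Uq Top)
open Cfsg.Lib.Comp (Tw)
open scoped commutatorElement

section Model
variable {E M : Type*} [Field E] [Finite E] [AddCommGroup M] [Module E M] [FiniteDimensional E M]
  {σ : E →+* E} {B : M →ₛₗ[σ] M →ₗ[E] E} {u x y : M} {U : Subgroup (sIsom B)} {W : Submodule E M}
  {e f : Fin 3 → M} {α : MulAut (sIsom B)} {Γ : M ≃+ M}

theorem conj_diag (h : Mo B) {r : ℕ} {y y' : Fin r → M} (li : LinearIndependent E y)
    (li' : LinearIndependent E y') (ti : ∀ i j, B (y i) (y j) = 0) (ti' : ∀ i j, B (y' i) (y' j) = 0) :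
    ∃ (g : sIsom B) (ν : Fin r → E), ∀ i, σ (ν i) * ν i = 1 ∧ lin g (y i) = ν i • y' i := by
  cases r with
  | zero => exact ⟨1, Fin.elim0, fun i => i.elim0⟩
  | succ r =>
  obtain ⟨g, hg⟩ := h.toGood.witt_family li li' fun i j => (ti' i j).trans (ti i j).symm
  obtain ⟨f, ff, ef⟩ := h.dual' li' ti'
  have hμ := h.toHerm.norm_det g
  generalize hd : ((LinearEquiv.det (g : M ≃ₗ[E] M) : Eˣ) : E) = μ at hμ
  obtain ⟨l, hl⟩ := h.exists_sq (σ μ)
  have h1 : σ l * l = 1 := h.sq_inj (by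
    rw [mul_mul_mul_comm, ← map_mul, hl, h.ss, mul_comm, hμ, mul_one])
  have e0 : B (y' 0) (f 0) = 1 := (ef 0 0).trans (if_pos rfl)
  have hm : h.toHerm.hypDiag (ti' 0 0) (ff 0 0) e0 l l h1 * g ∈ sIsom B := by
    rw [mem_sIsom', Subgroup.coe_mul, map_mul, Units.val_mul, Herm.det_hypDiag, hd, hl, hμ]
  refine ⟨⟨_, hm⟩, fun i => if i = 0 then l else 1, fun i => ⟨?_, ?_⟩⟩
  · by_cases h3 : i = 0
    · simp only [if_pos h3, h1]
    · simp only [if_neg h3, map_one, mul_one]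
  · rw [lin_mk, isom_mul_apply, hg, Herm.hypDiag_apply, ti', UM.OUT.fe h ef]
    by_cases h3 : i = 0
    · subst h3
      simp only [if_true]
      module
    · simp only [if_neg h3, if_neg (Ne.symm h3)]
      module

theorem conj_fix (h : Mo B) (k : Semi α Γ (sg σ)) (h2 : α * α = 1) {v : sIsom B} (v2 : v * v = 1) :
    ∃ l, α (l * v * l⁻¹) = l * v * l⁻¹ := by
  obtain ⟨r, y, li, ti, hy⟩ := exists_diag h v2
  obtain ⟨W, hW, hle⟩ := h.le_Mx (UM.OUT.ti h ti)
  have hr : r ≤ kk E M := by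
    have := Submodule.finrank_mono hle
    rwa [finrank_span_eq_card li, Fintype.card_fin, hW.dim] at this
  obtain ⟨e, lie, tie, he⟩ := UM.OUT.fam h k (UM.OUT.sq h k h2) r hr
  obtain ⟨g, ν, hg⟩ := conj_diag h li lie ti tie
  have key : ∀ x, lin (g * v * g⁻¹) x = x + ∑ i, B (e i) x • e i := fun x => by
    rw [lin_mul, lin_mul, hy, map_add, lin_lin_inv, map_sum]
    refine congrArg _ (Finset.sum_congr rfl fun i _ => ?_)
    rw [map_smul, ← lin_left, (hg i).2, LinearMap.map_smulₛₗ₂, smul_eq_mul, smul_smul,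
      mul_right_comm, (hg i).1, one_mul]
  refine ⟨g, lin_ext fun x => ?_⟩
  obtain ⟨x, rfl⟩ := Γ.surjective x
  rw [k.conj, key, key, map_add, map_sum]
  refine congrArg _ (Finset.sum_congr rfl fun i _ => ?_)
  rw [k.smul, ← k.form, he]

end Model

end Cfsg.Lib.SUE
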