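import Cfsg.Agent.SUE.F2

/-!
# The unitary end game: the centraliser of `z` normalises `Q`
-/

set_option autoImplicit false
set_option linter.unusedSectionVars false

namespace Cfsg.Lib.SUE

open Subgroup Cfsg.Lib.Trans Cfsg.Lib.Gold
open Cfsg.Lib.SG2
open Cfsg.Lib.AE (Cn)
open Cfsg.Lib.AE.F2 (comm_mem_left comm_mem_right)
open scoped commutatorElement

variable {G : Type*} [Group G] [Finite G] {X L U P Q R : Subgroup G} {z a a' w t : G}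

namespace FX

variable (h : FX X L U P Q R z a a' w t)
include h

theorem nQ {n : G} (hn : n ∈ X ⊓ Ns R) : n ∈ Ns Q := by
  have e : cj n (X ⊓ Cs R) = X ⊓ Cs R := mem_Ns_iff.1 (mem_Ns_inf (h.nX n) (mem_Ns_Cs hn.2))
  refine mem_Ns_iff.2 (h.wc hn (h.sylC.le_of_normal (isPGroup_cj h.twoQ n)
    ((cj_mono n h.QC).trans e.le) ?_))
  change _ ≤ Ns (cj n Q)
  rw [← cj_Ns, ← e]
  exact cj_mono n h.cR

/-- An element which acts trivially on `Q / R` centralises `R`. -/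
theorem cs {k : G} (hk : ∀ x ∈ Q, ⁅k, x⁆ ∈ R) : R ≤ C1 k := by
  have c : ∀ r ∈ R, ∀ x ∈ Q, Commute r x := fun r hr x ha => mem_Cs.1 (h.QC ha).2 r hr
  rw [← h.cQ, commutator_le]
  intro x ha b hb
  rw [mem_C1]
  have e : ∀ x : G, k * x * k⁻¹ = ⁅k, x⁆ * x := fun x => by group
  have h1 : k * ⁅x, b⁆ * k⁻¹ = ⁅⁅k, x⁆ * x, ⁅k, b⁆ * b⁆ := by
    rw [← e, ← e, conjugate_commutatorElement]
  have r1 := hk x ha
  have r2 := hk b hb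
  generalize ⁅k, x⁆ = r at h1 r1
  generalize ⁅k, b⁆ = s at h1 r2
  have h2 : ⁅r * x, s * b⁆ = ⁅x, b⁆ := by
    have rb := c r r1 b hb
    have sa := c s r2 x ha
    have rs := c r r1 s (h.RQ r2)
    calc ⁅r * x, s * b⁆ = r * (x * s) * b * x⁻¹ * (r⁻¹ * b⁻¹) * s⁻¹ := by group
      _ = r * (s * x) * b * x⁻¹ * (b⁻¹ * r⁻¹) * s⁻¹ := by rw [sa.eq, rb.inv_inv.eq]
      _ = r * s * ⁅x, b⁆ * (s * r)⁻¹ := by group
      _ = ⁅x, b⁆ := by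
        have h3 : Commute (r * s) ⁅x, b⁆ :=
          c _ (mul_mem r1 r2) _ (mul_mem (mul_mem (mul_mem ha hb) (inv_mem ha)) (inv_mem hb))
        rw [h3.eq, ← rs.eq, mul_inv_cancel_right]
  rw [h2] at h1
  rw [← h1, inv_mul_cancel_right, h1]

theorem cz : X ⊓ C1 z ≤ Ns Q := by
  have hS := h.sylY
  have PY : P ≤ X ⊓ C1 z := h.PC.trans h.CY
  obtain ⟨K, k1, k2, k3, k4⟩ := gbq hS (D := ⊥) bot_le h.RU (by simp [normalizer_eq_top])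
    (fun a ha b hb => mem_bot.2 (commutatorElement_eq_one_iff_mul_comm.2
      (comm_of_sq h.el a ha b hb))) h.scR
  have KU : K ⊓ U = R := h.f7R _ (le_inf k1 h.RU) inf_le_right
    (le_Ns_inf (hS.le.trans k3) le_normalizer) fun v hv v2 => k4 v hv (mem_bot.2 v2)
  have tY : t ∈ Ns (X ⊓ C1 z) := mem_Ns_inf (h.nX t) (mem_Ns_C1 h.tz)
  have PO := PY.trans le_Ns_Oc_self
  have hO : Oc (X ⊓ C1 z) ≤ Cs Q := le_Cs_comm.1 (h.nu (le_Ns_Cs PO) (h.ok odd_card_Oc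
    (Oc_le.trans inf_le_right) (mem_Ns_Oc tY) h.aQ (PO (h.QP h.aQ)) h.a2 h.ga))
  have h1 : X ⊓ C1 z ≤ Ns R := by
    refine (burnq hS (D := ⊥) bot_le (le_Cs_comm.1 bot_le) k2 k3 KU fun k hk a ha => ?_).trans
      (sup_le (hO.trans ((Cs_anti h.RQ).trans Cs_le_Ns)) le_rfl)
    have h2 := h.nQ ⟨(k2 hk.1).1, hk.2⟩
    have h3 := h.cs (k := k) (fun b hb => KU.le
      ⟨comm_mem_left hk.1 (k3 (hS.le (h.QU hb))), h.QU (comm_mem_right h2 hb)⟩) ha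
    exact mem_bot.2 (commutatorElement_eq_one_iff_mul_comm.2 (mem_C1.1 h3).symm)
  exact fun n hn => h.nQ ⟨hn.1, h1 hn⟩

theorem czR {g : G} (hg : g ∈ X ⊓ C1 z) : g ∈ Ns R := h.nR (h.cz hg)

/-- Elements centralising `Q` centralise `P`. -/
theorem cP {o : G} (ho : o ∈ X ⊓ Cs Q) : P ≤ C1 o := by
  have CY : X ⊓ Cs Q ≤ X ⊓ C1 z := inf_le_inf_left _ (Cs_le_C1 (h.RQ h.zR))
  have n : ∀ g ∈ Ns Q, g ∈ Ns (Oc (X ⊓ Cs Q)) := fun g hg =>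
    mem_Ns_Oc (mem_Ns_inf (h.nX g) (mem_Ns_Cs hg))
  have RC : R ≤ Cs Q := le_Cs_comm.1 (h.QP.trans h.PR)
  have h2 : X ⊓ Cs Q ≤ R ⊔ Oc (X ⊓ Cs Q) := cent_syl (le_inf (le_inf (h.RU.trans h.syl.le) RC)
    (le_Cs_comm.1 (inf_le_right.trans (Cs_anti h.RQ)))) (fun g hg tg => by
      obtain ⟨k, hk, e⟩ := h.sylY.exists_cj_le tg.isPGroup (zpowers_le.2 (CY hg))
      have := mem_normalizer_conj' (h.czR hk) (h.cPQ ⟨h.UP (cj_le_iff.1 e g (mem_zpowers g)),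
        mem_normalizer_conj (mem_Ns_Cs (h.cz hk)) hg.2⟩)
      rwa [show k⁻¹ * (k * g * k⁻¹) * k = g by group] at this) h.twoR
  obtain ⟨m, hm, e⟩ := h.gw
  have h3 : w ∈ Cs (Oc (X ⊓ Cs Q)) := h.uq.okill h.tM h.t2 odd_card_Oc (n t h.tQ)
    (n w (h.PQ h.wP)) h.w2 (le_normalizer (h.PL hm)) e fun y hy => by
      have k1 := comm_mem_left hy.1 (n w (h.PQ h.wP))
      have k2 : ⁅y, w⁆ ∈ R ⊓ Oc (X ⊓ Cs Q) := ⟨h.cPQ
        ⟨comm_mem_right (h.f8 ⟨hy.2, (CY (Oc_le hy.1)).2⟩).1 h.wP, (Oc_le k1).2⟩, k1⟩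
      rw [inf_eq_bot_of_odd h.twoR odd_card_Oc, mem_bot] at k2
      exact commutatorElement_eq_one_iff_commute.1 k2
  have h4 : P ≤ Cs (R ⊔ Oc (X ⊓ Cs Q)) := le_Cs_comm.1 (sup_le (le_Cs_comm.1 h.PR) (le_Cs_comm.1
    (h.nw (fun p hp => mem_Ns_Cs (n p (h.PQ hp))) (le_Cs_comm.1 (Oc_le.trans inf_le_right)) h3)))
  exact fun p hp => mem_C1.2 (mem_Cs.1 (h4 hp) o (h2 ho)).symm

end FX

end Cfsg.Lib.SUE
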