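import Cfsg.Agent.SUE.G1
import Cfsg.Agent.UM.KIT
import Cfsg.Agent.SG2.EFf
import Cfsg.Agent.Trans.TransferTools
import Cfsg.Agent.Comp.Fam

set_option autoImplicit false
set_option linter.unusedSectionVars false
set_option linter.unusedVariables false

namespace Cfsg.Lib.SUE

open Subgroup Module Cfsg.Lib.Trans Cfsg.Lib.Gold Cfsg.Lib.Class.Form Cfsg.Lib.Class.FAut
open Cfsg.Lib.UM (Mo tT tE I2 I3 Fr3 Mx VW RR QW Fx St Semi Mp sg qn kk fa)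
open Cfsg.Lib.AE (Cn)
open Cfsg.Lib.SG2 (Uq Top)
open Cfsg.Lib.Comp (Tw)
open scoped commutatorElement

variable {G E M : Type*} [Group G] [Finite G] [Field E] [Finite E] [AddCommGroup M] [Module E M]
  [FiniteDimensional E M] {σ : E →+* E} {B : M →ₛₗ[σ] M →ₗ[E] E} {ψ : sIsom B →* G} {t : G}
  {α : MulAut (sIsom B)} {Γ : M ≃+ M} {X : Subgroup G} {u x : M}

namespace G2

/-- `m` induces an automorphism with field part `τ`. -/
def Fa (ψ : sIsom B →* G) (m : G) (τ : E ≃+* E) : Prop := ∃ β, Mp ψ ψ m β ∧ fa β = τ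

theorem Fa_eq_1' : type_of% @Fa.eq_1 := @Fa.eq_1

variable {m m' : G} {τ τ' : E ≃+* E}

theorem ex (h : UM.Mod ψ) (hm : m ∈ Ns ψ.range) : ∃ τ, Fa ψ m τ :=
  let ⟨β, k⟩ := h.ind hm
  ⟨_, β, k, rfl⟩

theorem one (h : UM.Mod ψ) : Fa ψ 1 1 := ⟨1, UM.Mp.one, h.toMo.fa_one⟩

theorem mul (h : UM.Mod ψ) (k : Fa ψ m τ) (k' : Fa ψ m' τ') : Fa ψ (m * m') (τ * τ') := by
  obtain ⟨β, k, rfl⟩ := k
  obtain ⟨β', k', rfl⟩ := k'
  exact ⟨_, k.mul k', h.toMo.fa_mul _ _⟩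

theorem inv (h : UM.Mod ψ) (k : Fa ψ m τ) : Fa ψ m⁻¹ τ⁻¹ := by
  obtain ⟨β, k, rfl⟩ := k
  exact ⟨_, k.inv, h.toMo.fa_inv _⟩

theorem uniq (h : UM.Mod ψ) (k : Fa ψ m τ) (k' : Fa ψ m τ') : τ = τ' := by
  obtain ⟨β, k, rfl⟩ := k
  obtain ⟨β', k', rfl⟩ := k'
  rw [k.uniq h k']

theorem conj (h : UM.Mod ψ) (k : Fa ψ m τ) (k' : Fa ψ m' τ') : Fa ψ (m' * m * m'⁻¹) τ := by
  have := mul h (mul h k' k) (inv h k')
  rwa [UM.aut_comm τ' τ, mul_inv_cancel_right] at this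

/-- The elements inducing linear automorphisms. -/
def T0 (h : UM.Mod ψ) : Subgroup G where
  carrier := {m | Fa ψ m 1}
  one_mem' := one h
  mul_mem' k k' := by simpa using mul h k k'
  inv_mem' k := by simpa using inv h k

theorem T0_eq_1' : type_of% @T0.eq_1 := @T0.eq_1

theorem sg_of (h : UM.Mod ψ) (hm : m ∈ Ns ψ.range) (h1 : m ∉ T0 h) (h2 : m * m ∈ T0 h) :
    Fa ψ m (sg σ) := by
  obtain ⟨τ, k⟩ := ex h hm
  rcases h.toMo.aut_inv (uniq h (mul h k k) h2) with rfl | rfl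
  · exact absurd k h1
  · exact k

theorem fa_t (h : UE ψ t α Γ) : Fa ψ t (sg σ) := ⟨α, h.mp, h.fa_t⟩

end G2

open G2

theorem UE.le (h : UE ψ t α Γ) (hX : Top X t) : ψ.range ≤ X := by
  rw [← h.toMod.perf]
  exact commutator_le.2 fun a _ b _ => hX.ef_comm h.t2 a b

theorem UE.notX (h : UE ψ t α Γ) (hX : Top X t) : t ∉ X := by
  intro ht
  have m := h.toMod
  have t1 : t ≠ 1 := fun e => m.toMo.sg_ne (uniq m (G2.fa_t h) (e ▸ one m))
  have hT : X = ⊤ := by rw [← hX.top, sup_eq_left.2 (zpowers_le.2 ht)]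
  obtain ⟨S, hS, hSt⟩ := exists_isSylowIn_ge (Comp.Tw.of_sq h.t2).isPGroup (le_top (a := zpowers t))
  have hM : S ≤ Ns ψ.range := h.uq.two_le h.tM hS.isPGroup (hSt (mem_zpowers t))
  obtain ⟨a, h1, h2, -⟩ := thompson_transfer_involution (H := S) (T := T0 m)
    (by simpa using hS.not_dvd)
    (fun u hu v hv => by
      obtain ⟨τ, h1⟩ := ex m (hM hu)
      obtain ⟨ρ, h2⟩ := ex m (hM hv)
      have := mul m (conj m h2 h1) (inv m h2)
      rwa [mul_inv_cancel] at this)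
    (fun u hu => by
      obtain ⟨k, hk⟩ := Comp.Tw.of_mem hS.isPGroup hu
      exact ⟨k, by rw [hk]; exact one_mem _⟩)
    t (Bender.orderOf_eq_two t1 h.t2)
    (fun u hu v hv u2 v2 un vn => by
      have := mul m (sg_of m (hM hu) un (by rw [← pow_two, ← u2, pow_orderOf_eq_one]; exact one_mem _))
        (sg_of m (hM hv) vn (by rw [← pow_two, ← v2, pow_orderOf_eq_one]; exact one_mem _))
      rwa [m.toMo.sg_sq] at this)
    (mem_sup_left (by rw [_root_.commutator_def, ← hT, hX.perf]; exact ht)) ⊥ IsPGroup.of_bot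
    (fun r hr => by rw [mem_bot.1 hr, one_mul, mul_one])
  obtain ⟨ρ, hρ⟩ := ex m (h.uq a⁻¹ (by rw [inv_inv]; exact hM h1))
  have := conj m (G2.fa_t h) hρ
  rw [inv_inv] at this
  exact m.toMo.sg_ne (uniq m this h2)

theorem UE.twoX (h : UE ψ t α Γ) (hX : Top X t) : ∀ g ∈ X ⊓ Ns ψ.range, Tw g → g ∈ ψ.range := by
  intro g hg h2
  have m := h.toMod
  by_cases h1 : g ∈ T0 m
  · obtain ⟨β, k, e⟩ := h1
    exact h.lin k e h2
  obtain ⟨s, hs, s1, s2⟩ := h2.exists_last h1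
  have hs' : s ∈ X ⊓ Ns ψ.range := zpowers_le.2 hg hs
  have tw : Tw s := Comp.Tw.of_mem h2.isPGroup hs
  obtain ⟨S, hS, hSt⟩ := exists_isSylowIn_ge (Comp.Tw.of_sq h.t2).isPGroup (zpowers_le.2 h.tM)
  obtain ⟨n, hn, e⟩ := hS.exists_cj_le tw.isPGroup (zpowers_le.2 hs'.2)
  obtain ⟨ρ, hρ⟩ := ex m hn
  have k1 := mul m (conj m (sg_of m hs'.2 s1 s2) hρ) (G2.fa_t h)
  rw [m.toMo.sg_sq] at k1
  obtain ⟨β, k, e'⟩ := k1
  have k2 := h.le hX (h.lin k e' (Comp.Tw.of_mem hS.isPGroup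
    (mul_mem (cj_le_iff.1 e s (mem_zpowers s)) (hSt (mem_zpowers t)))))
  exact absurd ((mul_mem_cancel_left (hX.normal.conj_mem _ hs'.1 n)).1 k2) (h.notX hX)

theorem UE.sylX (h : UE ψ t α Γ) (hX : Top X t) {U : Subgroup (sIsom B)} (hU : IsSylowIn 2 U ⊤) :
    IsSylowIn 2 (U.map ψ) X := by
  have hs := h.toMod.syl_map hU
  obtain ⟨P, hP, -⟩ := exists_isSylowIn_ge hs.isPGroup (hs.le.trans (h.le hX))
  obtain ⟨k, -, hk⟩ := h.uq.conj_le h.tM h.t2 (Y := ⊤) trivial hP.isPGroup le_top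
  have h1 : cj k P ≤ ψ.range := fun g hg => h.twoX hX g
    ⟨cj_le_iff.2 (fun p hp => hX.normal.conj_mem _ (hP.le hp) k) hg, hk hg⟩
    (Comp.Tw.of_mem (isPGroup_cj hP.isPGroup k) hg)
  refine hP.of_card_ge hs.isPGroup (hs.le.trans (h.le hX)) ?_
  rw [← card_cj k P]
  exact hs.card_le (isPGroup_cj hP.isPGroup k) h1

end Cfsg.Lib.SUE
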