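import Cfsg.Agent.SUE.Defs
import Cfsg.Agent.UM.K4
import Cfsg.Agent.UM.SYLA
import Cfsg.Agent.UM.A2

/-!
# The unitary end game: transvections and the group `Q`
-/

set_option autoImplicit false
set_option linter.unusedSectionVars false
set_option linter.unusedVariables false

namespace Cfsg.Lib.SUE

open Subgroup Module Cfsg.Lib.Trans Cfsg.Lib.Gold Cfsg.Lib.Class.Form Cfsg.Lib.Class.FAut
open Cfsg.Lib.UM (Mo tT tE I2 I3 Fr3 Mx VW RR QW Fx St Semi Mp sg qn kk fa)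
open Cfsg.Lib.AE (Cn)
open Cfsg.Lib.SG2 (Uq Top)
open Cfsg.Lib.Comp (Tw)
open scoped commutatorElement

section Model
variable {E M : Type*} [Field E] [Finite E] [AddCommGroup M] [Module E M] [FiniteDimensional E M]
  {σ : E →+* E} {B : M →ₛₗ[σ] M →ₗ[E] E} {u x y : M} {U : Subgroup (sIsom B)} {W : Submodule E M}
  {e f : Fin 3 → M} {α : MulAut (sIsom B)} {Γ : M ≃+ M}

theorem M1.li (u0 : u ≠ 0) (hx : x ∉ E ∙ u) : LinearIndependent E ![u, x] :=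
  (LinearIndependent.pair_iff' u0).2 fun a ha => hx (Submodule.mem_span_singleton.2 ⟨a, ha⟩)

theorem cn_T (h : Mo B) (hu : B u u = 0) (u0 : u ≠ 0) {v : sIsom B} :
    Cn ⊤ (tT B u 1) v ↔ ∃ y c, y ≠ 0 ∧ B y y = 0 ∧ σ c = c ∧ c ≠ 0 ∧ v = tT B y c := by
  constructor
  · rintro ⟨l, -, rfl⟩
    exact ⟨lin l u, 1, (map_ne_zero_iff _ (lin l).injective).2 u0, (lin_isom ..).trans hu, map_one σ,
      one_ne_zero, h.tT_conj l hu (map_one σ)⟩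
  · rintro ⟨y, c, y0, hy, hc, c0, rfl⟩
    obtain ⟨g, hg⟩ := h.tT_conj' hu u0 hy y0 (map_one σ) one_ne_zero hc c0
    exact ⟨g, mem_top g, hg⟩

theorem cn_E (h : Mo B) {u' x' : M} (k : I2 B u x) (hx : x ∉ E ∙ u) (u0 : u ≠ 0) (k' : I2 B u' x')
    (hx' : x' ∉ E ∙ u') (u0' : u' ≠ 0) : Cn ⊤ (tE B u x) (tE B u' x') := by
  obtain ⟨g, h1, h2⟩ := h.tr2 k (M1.li u0 hx) k' (M1.li u0' hx')
  exact ⟨g, mem_top g, by rw [h.tE_conj g k, h1, h2]⟩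

theorem comm_P (h : Mo B) (hu : B u u = 0) (u0 : u ≠ 0) {g k : sIsom B} (hg : g ∈ Fx B (E ∙ u)) {b : E}
    (hx : B u x = 0) (hb : b + σ b = B x x) (hk : IsE B 1 u x b k) :
    ⁅g, k⁆ ∈ RR B u ↔ lin g x + x ∈ E ∙ u :=
  have e := UM.SYL.comm_E h hu hx hb hk (UM.mem_Fx1.1 hg)
  ⟨UM.SYL.RR_isE h hu u0 e, UM.SYL.isE_RR e⟩

theorem m_cQ (h : Mo B) (hu : B u u = 0) (u0 : u ≠ 0) :
    ⁅QW B (E ∙ u), QW B (E ∙ u)⁆ = RR B u := by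
  refine le_antisymm (commutator_le.2 fun g hg k hk => ?_) fun r hr => ?_
  · obtain ⟨x, c, hx, -, eg⟩ := UM.SYL.Q_isE h hu u0 hg
    obtain ⟨w, b, hw, hb, ek⟩ := UM.SYL.Q_isE h hu u0 hk
    rw [UM.SYL.comm_EE h hu hw hx hb ek eg]
    exact (h.mem_RR hu).2 ⟨_, by rw [map_add, h.ss, add_comm], rfl⟩
  · obtain ⟨c, hc, rfl⟩ := (h.mem_RR hu).1 hr
    obtain ⟨a, ha, b, hb, -, -, e⟩ := h.comm_root hu u0 hc
    exact e ▸ commutator_mem_commutator ha hb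

theorem m_sQ (h : Mo B) (hu : B u u = 0) (u0 : u ≠ 0) : ∀ v ∈ QW B (E ∙ u), v * v ∈ RR B u := by
  intro v hv
  obtain ⟨x, c, hx, -, e⟩ := UM.SYL.Q_isE h hu u0 hv
  exact UM.A2.mul_mem_RR h hu hx e e

theorem m_rA (h : Mo B) (hu : B u u = 0) (u0 : u ≠ 0) :
    ∀ r ∈ RR B u, r ≠ 1 → Cn ⊤ (tT B u 1) r := by
  intro r hr r1
  obtain ⟨c, hc, rfl⟩ := (h.mem_RR hu).1 hr
  exact (cn_T h hu u0).2 ⟨u, c, u0, hu, hc, fun c0 => r1 (by rw [c0, h.tT_zero]), rfl⟩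

theorem m_fq (h : Mo B) (hu : B u u = 0) (u0 : u ≠ 0) : ∀ v ∈ QW B (E ∙ u), v ∉ RR B u →
    ∀ r ∈ RR B u, ∃ b ∈ QW B (E ∙ u), b * v * b⁻¹ = v * r := by
  intro v hv hn r hr
  obtain ⟨x, b, hx, hb, e⟩ := UM.SYL.Q_isE h hu u0 hv
  obtain ⟨c, hc, rfl⟩ := (h.mem_RR hu).1 hr
  obtain ⟨k, hk, e'⟩ := UM.SYL.all_T h hu hx (fun hx' => hn (UM.SYL.isE_RR e hx'))
    (UM.SYL.isE_inv h hu hx hb e) hc
  exact ⟨k, hk, by rw [← e', commutatorElement_def]; group⟩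

theorem m_cQR (h : Mo B) (hu : B u u = 0) (u0 : u ≠ 0) :
    ∀ v ∈ Fx B (E ∙ u), Sb (QW B (E ∙ u)) (RR B u) v → v ∈ QW B (E ∙ u) := by
  intro v hv hs
  by_contra hn
  obtain ⟨w, hw, hw'⟩ := UM.SYL.not_Q h hv hn
  obtain ⟨b, g, hb, hg, hQ⟩ := UM.SYL.exists_E h hu hw
  exact hw' ((comm_P h hu u0 hv hw hb hg).1 (hs g hQ))

end Model

end Cfsg.Lib.SUE
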