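import Cfsg.Agent.SUE.M1
import Cfsg.Agent.UM.K3

/-!
# The unitary end game: rank arguments
-/

set_option autoImplicit false
set_option linter.unusedSectionVars false
set_option linter.unusedVariables false

namespace Cfsg.Lib.SUE

open Subgroup Module Cfsg.Lib.Trans Cfsg.Lib.Gold Cfsg.Lib.Class.Form Cfsg.Lib.Class.FAut
open Cfsg.Lib.UM (Mo tT tE I2 I3 Fr3 Mx VW RR QW Fx St Semi Mp sg qn kk fa)
open Cfsg.Lib.AE (Cn)
open Cfsg.Lib.SG2 (Uq Top)
open Cfsg.Lib.Comp (Tw)
open scoped commutatorElement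

section Model
variable {E M : Type*} [Field E] [Finite E] [AddCommGroup M] [Module E M] [FiniteDimensional E M]
  {σ : E →+* E} {B : M →ₛₗ[σ] M →ₗ[E] E} {u x y : M} {U : Subgroup (sIsom B)} {W : Submodule E M}
  {e f : Fin 3 → M} {α : MulAut (sIsom B)} {Γ : M ≃+ M}

namespace M2

theorem cn (h : Mo B) (k : I2 B u x) (u0 : u ≠ 0) (hx : x ∉ E ∙ u) {v : sIsom B}
    (hv : Cn ⊤ (tE B u x) v) : ∃ p q, I2 B p q ∧ LinearIndependent E ![p, q] ∧ v = tE B p q := by
  obtain ⟨l, -, rfl⟩ := hv
  exact ⟨_, _, k.lin l, LinearIndependent.pair_iff.2 fun a b e =>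
    LinearIndependent.pair_iff.1 (M1.li u0 hx) a b ((lin l).injective (by simpa using e)),
    h.tE_conj l k⟩

theorem not_RR (h : Mo B) {p q z : M} (k : I2 B p q) (li : LinearIndependent E ![p, q]) :
    tE B p q ∉ RR B z := fun hz => by
  have key : ∀ a b : E, a • q + b • p ∈ E ∙ z := fun a b => by
    obtain ⟨w, hw⟩ := h.exists_forall_eq' li ![a, b]
    have := UM.mem_VW.1 hz w
    rwa [h.lin_tE k, show B p w = a from hw 0, show B q w = b from hw 1, add_assoc,
      add_sub_cancel_left] at this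
  obtain ⟨a, ha⟩ := Submodule.mem_span_singleton.1 (key 1 0)
  obtain ⟨b, hb⟩ := Submodule.mem_span_singleton.1 (key 0 1)
  obtain ⟨h1, h2⟩ := LinearIndependent.pair_iff.1 li a (-b) (by
    linear_combination (norm := module) b • ha - a • hb)
  exact one_ne_zero (LinearIndependent.pair_iff.1 li 0 1 (by
    rw [h1] at ha; linear_combination (norm := module) -ha)).2

theorem three {p q a b c : M} (li : LinearIndependent E ![a, b, c])
    (ha : a ∈ Submodule.span E {p, q}) (hb : b ∈ Submodule.span E {p, q})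
    (hc : c ∈ Submodule.span E {p, q}) : False := by
  have h1 := finrank_span_eq_card li
  have h2 := finrank_range_le_card (R := E) ![p, q]
  have h3 : Submodule.span E (Set.range ![a, b, c]) ≤ Submodule.span E (Set.range ![p, q]) := by
    rw [Submodule.span_le, Matrix.range_cons_cons_empty]
    rintro _ ⟨i, rfl⟩
    fin_cases i
    exacts [ha, hb, hc]
  have h4 := Submodule.finrank_mono h3
  rw [h1] at h4
  simp only [Set.finrank, Fintype.card_fin] at h2 h4
  omega

theorem base (h : Mo B) {p q : M} (k : I2 B p q) (u0 : u ≠ 0) (hu : u ∈ Submodule.span E {p, q}) :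
    ∃ y, I2 B u y ∧ Submodule.span E {p, q} ≤ Submodule.span E {u, y} := by
  have hp : p ∈ Submodule.span E {p, q} := Submodule.subset_span (by simp)
  have hq : q ∈ Submodule.span E {p, q} := Submodule.subset_span (by simp)
  obtain ⟨a, b, e⟩ := Submodule.mem_span_pair.1 hu
  by_cases b0 : b = 0
  · have a0 : a ≠ 0 := by rintro rfl; exact u0 (by rw [← e, b0]; simp)
    refine ⟨q, I2.of_ti (k.ti h) hu hq, Submodule.span_le.2 (Set.insert_subset_iff.2
      ⟨Submodule.mem_span_pair.2 ⟨a⁻¹, 0, ?_⟩, Set.singleton_subset_iff.2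
        (Submodule.subset_span (by simp))⟩)⟩
    rw [← e, b0, zero_smul, add_zero, add_zero, inv_smul_smul₀ a0]
  · refine ⟨p, I2.of_ti (k.ti h) hu hp, Submodule.span_le.2 (Set.insert_subset_iff.2
      ⟨Submodule.subset_span (by simp), Set.singleton_subset_iff.2
        (Submodule.mem_span_pair.2 ⟨b⁻¹, -(b⁻¹ * a), ?_⟩)⟩)⟩
    rw [← e, smul_add, inv_smul_smul₀ b0]
    module

end M2

theorem m_k3z (h : Mo B) (hu : B u u = 0) (u0 : u ≠ 0) : ∀ v ∈ Fx B (E ∙ u),
    Cn ⊤ (tT B u 1) v → Cn ⊤ (tT B u 1) (v * tT B u 1) → v ∈ RR B u := by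
  intro v hv h1 h2
  obtain ⟨y, c, y0, hy, hc, c0, rfl⟩ := (cn_T h hu u0).1 h1
  obtain ⟨x, d, -, hx, hd, -, e⟩ := (cn_T h hu u0).1 h2
  refine h.tT_mem hy (by_contra fun hn => ?_) hc
  have h3 : B y u = 0 := by
    have := UM.mem_Fx1.1 hv
    rw [h.lin_tT hy hc, add_eq_left, smul_eq_zero, mul_eq_zero] at this
    exact (this.resolve_right y0).resolve_left c0
  have key : ∀ a b : E, a • u + (c * b) • y ∈ E ∙ x := fun a b => by
    obtain ⟨w, hw⟩ := h.exists_forall_eq' (M1.li u0 hn) ![a, b]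
    have := h.lin_tT hx hd w
    rw [← e, lin_mul, h.lin_tT hu (map_one σ), h.lin_tT hy hc, map_add, map_smul, h3,
      show B u w = a from hw 0, show B y w = b from hw 1] at this
    exact Submodule.mem_span_singleton.2 ⟨d * B x w, by
      linear_combination (norm := module) -this⟩
  obtain ⟨a, ha⟩ := Submodule.mem_span_singleton.1 (key 1 0)
  obtain ⟨b, hb⟩ := Submodule.mem_span_singleton.1 (key 0 1)
  obtain ⟨h4, h5⟩ := LinearIndependent.pair_iff.1 (M1.li u0 hn) b (-(a * c)) (by
    linear_combination (norm := module) a • hb - b • ha)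
  exact c0 (LinearIndependent.pair_iff.1 (M1.li u0 hn) 0 c (by
    rw [h4] at hb; linear_combination (norm := module) -hb)).2

theorem m_k3a (h : Mo B) (k : I2 B u x) (u0 : u ≠ 0) (hx : x ∉ E ∙ u) : ∀ v ∈ Fx B (E ∙ u),
    (∀ r ∈ RR B u, Cn ⊤ (tE B u x) (v * r)) → v ∈ QW B (E ∙ u) := by
  intro v hv hr
  have hu := k.uu
  obtain ⟨p, q, k1, li, e⟩ := M2.cn h k u0 hx (hr 1 (one_mem _))
  rw [mul_one] at e
  subst e
  by_cases hm : u ∈ Submodule.span E {p, q}
  · obtain ⟨y, k2, hle⟩ := M2.base h k1 u0 hm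
    obtain ⟨c, d, l, hc, hd, e⟩ := (h.mem_V2 k2).1 (UM.VW_mono hle
      (h.tE_mem k1 (Submodule.subset_span (by simp)) (Submodule.subset_span (by simp))))
    by_cases d0 : d = 0
    · rw [e, d0, h.tT_zero, mul_one]
      exact mul_mem (h.VW_le_QW (UM.ti1 hu) ((h.mem_RR hu).2 ⟨c, hc, rfl⟩))
        (h.tE_mem_Q (k2.smul_r l))
    · have hc' : σ (c + σ l * l / d) = c + σ l * l / d := by
        rw [map_add, map_div₀, map_mul, h.ss, hc, hd, mul_comm]
      obtain ⟨p', q', k3, li', e'⟩ := M2.cn h k u0 hx (hr _ ((h.mem_RR hu).2 ⟨_, hc', rfl⟩))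
      refine absurd (UM.mem_VW.2 fun w => ?_) (M2.not_RR h (z := (σ l / d) • u + y) k3 li')
      rw [← e', e, lin_mul, h.lin_v2 k2 l hc hd, h.lin_tT hu hc']
      simp only [map_add, map_smul, smul_eq_mul, hu, h.swap k2.uw, mul_zero, add_zero]
      refine Submodule.mem_span_singleton.2 ⟨d * B y w + l * B u w, ?_⟩
      match_scalars
      · field_simp
        linear_combination (-(d * c * B u w)) * h.two
      · ring
      · ring
  · have h1 := UM.mem_Fx1.1 hv
    rw [h.lin_tE k1] at h1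
    obtain ⟨h2, h3⟩ := LinearIndependent.pair_iff.1 li (B q u) (B p u) (by
      linear_combination (norm := module) h1)
    have li3 : LinearIndependent E ![u, p, q] :=
      linearIndependent_finCons.2 ⟨li, by rwa [Matrix.range_cons_cons_empty]⟩
    obtain ⟨p', q', k3, -, e'⟩ := M2.cn h k u0 hx (hr _ ((h.mem_RR hu).2 ⟨1, map_one σ, rfl⟩))
    have key : ∀ a b c : E, a • u + b • q + c • p ∈ Submodule.span E {p', q'} := fun a b c => by
      obtain ⟨w, hw⟩ := h.exists_forall_eq' li3 ![a, b, c]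
      have := h.lin_tE k3 w
      rw [← e', lin_mul, h.lin_tT hu (map_one σ), h.lin_tE k1, map_add, map_add, map_smul, map_smul,
        h2, h3, show B u w = a from hw 0, show B p w = b from hw 1, show B q w = c from hw 2] at this
      exact Submodule.mem_span_pair.2 ⟨B q' w, B p' w, by
        linear_combination (norm := module) -this⟩
    exact (M2.three li3 (by simpa using key 1 0 0) (by simpa using key 0 0 1)
      (by simpa using key 0 1 0)).elim

end Model

end Cfsg.Lib.SUE
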