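import Cfsg.Agent.SUE.Defs
import Cfsg.Agent.UM.SYLA
import Cfsg.Agent.UM.A2
import Cfsg.Agent.UM.K4

/-!
# The unitary model: irreducibility of `Q / R`
-/

set_option autoImplicit false
set_option linter.unusedSectionVars false
set_option linter.unusedVariables false

namespace Cfsg.Lib.SUE

open Subgroup Module Cfsg.Lib.Trans Cfsg.Lib.Gold Cfsg.Lib.Class.Form Cfsg.Lib.Class.FAut
open Cfsg.Lib.UM (Mo tT tE I2 I3 Fr3 Mx VW RR QW Fx St Semi Mp sg qn kk fa)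
open Cfsg.Lib.AE (Cn)
open scoped commutatorElement

variable {E M : Type*} [Field E] [Finite E] [AddCommGroup M] [Module E M] [FiniteDimensional E M]
  {σ : E →+* E} {B : M →ₛₗ[σ] M →ₗ[E] E} {u x y : M} {e f : Fin 3 → M}

namespace M3

theorem inv_top {N : Type*} [AddCommGroup N] [Module E N] [FiniteDimensional E N]
    {D : N →ₛₗ[σ] N →ₗ[E] E} (h : Herm D) (h3 : 3 ≤ finrank E N) {A : AddSubgroup N}
    (k : ∀ (g : sIsom D), ∀ x ∈ A, lin g x ∈ A) {w : N} (hw : w ∈ A) (w0 : w ≠ 0) (x : N) :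
    x ∈ A := by
  have hc := UM.AP1.cls h
  obtain ⟨y, hy, yw⟩ : ∃ y, D y y = 0 ∧ D y w ≠ 0 := by
    by_contra! e
    exact w0 (h.sep w fun v => UM.AP1.add_top h (by omega) (A := (D w).toAddMonoidHom.ker)
      (fun y hy => hc.comm (e y hy)) v)
  obtain ⟨c, c0, hc'⟩ := hc.exists_coeff
  obtain ⟨t, ht⟩ := hc.exists_isT hy hc'
  have h1 : (c * D y w) • y ∈ A := by
    have := k t w hw
    rwa [ht, A.add_mem_cancel_left hw] at this
  have y0 : (c * D y w) • y ≠ 0 := smul_ne_zero (mul_ne_zero c0 yw) (by rintro rfl; simp at yw)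
  refine UM.AP1.add_top h (by omega) (fun z hz => ?_) x
  by_cases z0 : z = 0
  · exact z0 ▸ A.zero_mem
  obtain ⟨g, rfl⟩ := UM.AP1.tr h h3 (u := (c * D y w) • y) (by simp [hy]) y0 hz z0
  exact k g _ h1

theorem li (p q : M) {w : M} (h1 : B p u = 1) (h2 : B p w = 0) (h3 : B q u = 0) (h4 : B q w = 1) :
    LinearIndependent E ![u, w] := LinearIndependent.pair_iff.2 fun s t e => by
  have e1 := congrArg (B p) e
  have e2 := congrArg (B q) e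
  simp only [map_add, map_smul, h1, h2, h3, h4, smul_eq_mul, mul_one, mul_zero, add_zero, zero_add,
    map_zero] at e1 e2
  exact ⟨e1, e2⟩

end M3

theorem m_irr (h : Mo B) (hu : B u u = 0) (u0 : u ≠ 0) : ∀ N : Subgroup (sIsom B), RR B u ≤ N →
    N ≤ QW B (E ∙ u) → Fx B (E ∙ u) ≤ Ns N → N = RR B u ∨ N = QW B (E ∙ u) := fun N h1 h2 h3 => by
  refine or_iff_not_imp_left.2 fun hn => le_antisymm h2 fun q hq => ?_
  obtain ⟨g, hg, gR⟩ := SetLike.not_le_iff_exists.1 fun e => hn (le_antisymm e h1)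
  obtain ⟨f, hf, huf⟩ := h.cls.exists_hyperbolic u0 hu
  obtain ⟨-, ι, -, -, -, k⟩ := UM.levi h.toHerm hu hf huf
  have h4 := h.cls.finrank_hypU hu huf
  have h6 := h.six
  have hU := h.toHerm.restrict (h.cls.nondegOn_hypU hu hf huf)
  let A : AddSubgroup (hypU B u f) :=
    { carrier := {w | ∃ b g, IsE B 1 u w b g ∧ g ∈ N}
      zero_mem' := ⟨0, 1, fun x => by simp, one_mem _⟩
      add_mem' := fun {w w'} ⟨_, _, e, hg⟩ ⟨_, _, e', hg'⟩ =>
        ⟨_, _, e.mul hu (h.swap (mem_hypU.1 w.2).1) (mem_hypU.1 w'.2).1 e', mul_mem hg hg'⟩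
      neg_mem' := fun {w} ⟨b, g, e, hg⟩ => ⟨b, g, by
        rwa [Submodule.coe_neg, neg_eq_of_add_eq_zero_left (h.vadd_self w.1)], hg⟩ }
  obtain ⟨w, hw, b, -, e⟩ := (UM.mem_Q1 h.toHerm hu hf huf).1 (h2 hg)
  obtain ⟨w', hw', b', -, e'⟩ := (UM.mem_Q1 h.toHerm hu hf huf).1 hq
  obtain ⟨b'', g', e'', hg'⟩ : (⟨w', hw'⟩ : hypU B u f) ∈ A :=
    M3.inv_top hU (by omega) (A := A) (w := ⟨w, hw⟩) (fun l x ⟨c, p, ep, hp⟩ => by
      have e := ep.conj (ι l)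
      rw [UM.mem_Fx1.1 (ι l).2, (k l).2] at e
      exact ⟨_, _, e, (mem_normalizer_iff.1 (h3 (ι l).2) p).1 hp⟩) ⟨b, g, e, hg⟩
      (fun w0 => gR (UM.SYL.isE_RR e (by
        rw [show w = 0 from congrArg Subtype.val w0]; exact Submodule.zero_mem _))) _
  exact (mul_mem_cancel_right hg').1 (h1 (UM.A2.mul_mem_RR h hu (mem_hypU.1 hw').1 e' e''))

theorem m_four (h : Mo B) (k : Fr3 B e f) : ∃ b, Cn (Fx B (E ∙ e 0)) (tE B (e 0) (e 1)) b ∧
    Cn (Fx B (E ∙ e 0)) (tE B (e 0) (e 1)) (tE B (e 0) (e 1) * b) := by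
  have fe := UM.Fr3.fe h k
  have k1 : I2 B (e 0) (e 1) := ⟨k.ee _ _, k.ee _ _, k.ee _ _⟩
  have l1 : LinearIndependent E ![e 0, e 1] :=
    M3.li (B := B) (f 0) (f 1) (by simp [fe]) (by simp [fe]) (by simp [fe]) (by simp [fe])
  have key : ∀ w, I2 B (e 0) w → B (f 0) w = 0 → B (f 2) w = 1 →
      Cn (Fx B (E ∙ e 0)) (tE B (e 0) (e 1)) (tE B (e 0) w) := fun w kw h1 h2 => by
    obtain ⟨g, g1, g2⟩ := h.tr2 k1 l1 kw
      (M3.li (B := B) (f 0) (f 2) (by simp [fe]) h1 (by simp [fe]) h2)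
    exact ⟨g, UM.mem_Fx1.2 g1, by rw [h.tE_conj g k1, g1, g2]⟩
  refine ⟨tE B (e 0) (e 2), key _ ⟨k.ee _ _, k.ee _ _, k.ee _ _⟩ (by simp [fe]) (by simp [fe]), ?_⟩
  rw [← h.tE_add ⟨k1, k.ee _ _, k.ee _ _, k.ee _ _⟩]
  exact key _ ⟨k.ee _ _, by simp [k.ee], by simp [k.ee]⟩ (by simp [fe]) (by simp [fe])

end Cfsg.Lib.SUE
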