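import Cfsg.Agent.SUE.M1
import Cfsg.Agent.UM.AP2A

/-!
# The unitary end game: involutions modulo `Q`
-/

set_option autoImplicit false
set_option linter.unusedSectionVars false
set_option linter.unusedVariables false

namespace Cfsg.Lib.SUE

open Subgroup Module Cfsg.Lib.Trans Cfsg.Lib.Gold Cfsg.Lib.Class.Form Cfsg.Lib.Class.FAut
open Cfsg.Lib.UM (Mo tT tE I2 I3 Fr3 Mx VW RR QW Fx St Semi Mp sg qn kk fa)
open Cfsg.Lib.AE (Cn)
open Cfsg.Lib.SG2 (Uq Top)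
open Cfsg.Lib.Comp (Tw)
open scoped commutatorElement

section Model
variable {E M : Type*} [Field E] [Finite E] [AddCommGroup M] [Module E M] [FiniteDimensional E M]
  {σ : E →+* E} {B : M →ₛₗ[σ] M →ₗ[E] E} {u x y : M} {U : Subgroup (sIsom B)} {W : Submodule E M}
  {e f : Fin 3 → M} {α : MulAut (sIsom B)} {Γ : M ≃+ M}

theorem M4.exists_iso (h : Mo B) (hu : B u u = 0) (u0 : u ≠ 0) {v : sIsom B}
    (hv : v ∈ Fx B (E ∙ u)) (hn : v ∉ QW B (E ∙ u)) :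
    ∃ w, B u w = 0 ∧ B w w = 0 ∧ lin v w + w ∉ E ∙ u := by
  by_contra! c
  obtain ⟨f, hf, huf⟩ := h.cls.exists_hyperbolic u0 hu
  have k : UM.AP2.HP B u f := ⟨h, hu, hf, huf⟩
  let S : Submodule E M := (E ∙ u).comap ((lin v : M →ₗ[E] M) + LinearMap.id)
  have hS : ∀ w, w ∈ S ↔ lin v w + w ∈ E ∙ u := fun w => Iff.rfl
  have h4 := k.four
  have hA := UM.AP1.add_top k.hU (by omega)
    (A := (S.comap (hypU B u f).subtype).toAddSubgroup) fun w hw => (hS _).2 (c w (k.ew w) hw)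
  obtain ⟨w, hw, hw'⟩ := UM.SYL.not_Q h hv hn
  have h1 : hproj B 1 u f w ∈ S := hA ⟨_, h.cls.hproj_mem hu hf huf w⟩
  have h2 : u ∈ S := (hS u).2 (by rw [UM.mem_Fx1.1 hv, h.vadd_self]; exact zero_mem _)
  rw [hproj_apply, hw, zero_smul, sub_zero] at h1
  exact hw' ((hS w).1 ((S.sub_mem_iff_left (S.smul_mem _ h2)).1 h1))

theorem m_f6 (h : Mo B) (k : I2 B u x) (u0 : u ≠ 0) (hx : x ∉ E ∙ u) : ∀ v ∈ Fx B (E ∙ u),
    v ∉ QW B (E ∙ u) → v * v ∈ RR B u → ∃ b ∈ QW B (E ∙ u), ∃ d ∈ QW B (E ∙ u), b ∉ RR B u ∧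
      d ∉ RR B u ∧ Cn ⊤ (tE B u x) b ∧ Cn ⊤ (tE B u x) d ∧ d⁻¹ * ⁅b, v⁆ ∈ RR B u := by
  intro v hv hn h2
  have hu := k.uu
  obtain ⟨w, hw, hww, hy⟩ := M4.exists_iso h hu u0 hv hn
  have vu := UM.mem_Fx1.1 hv
  have k1 : I2 B u w := ⟨hu, hww, hw⟩
  have e1 : lin v (lin v w) = w := by
    rw [← lin_mul]; exact h.VW_fix h2 (mem_orth_span_singleton.2 hw)
  have e2 : B (lin v w) w = B w (lin v w) := by
    conv_rhs => rw [← lin_isom v, e1]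
  have k2 : I2 B u (lin v w + w) := ⟨hu, by
    simp only [map_add, LinearMap.add_apply, lin_isom, hww, e2, zero_add, add_zero]
    exact h.add_self _, by rw [map_add, hw, add_zero, ← vu, lin_isom, hw]⟩
  have hw' : w ∉ E ∙ u := fun c => hy (add_mem (by rwa [hv w c]) c)
  have e3 := UM.SYL.comm_E h hu hw (b := 0) (by rw [map_zero, add_zero, hww]) (h.isE k1) vu
  refine ⟨_, h.tE_mem_Q k1, _, h.tE_mem_Q k2, fun c => hw' (UM.SYL.RR_isE h hu u0 (h.isE k1) c),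
    fun c => hy (UM.SYL.RR_isE h hu u0 (h.isE k2) c), cn_E h k hx u0 k1 hw' u0,
    cn_E h k hx u0 k2 hy u0, ?_⟩
  rw [← commutatorElement_inv, ← mul_inv_rev]
  exact inv_mem (UM.A2.mul_mem_RR h hu k2.uw e3 (h.isE k2))

theorem MF.f7Q (h : MF B U W u) : ∀ N : Subgroup (sIsom B), QW B (E ∙ u) ≤ N → N ≤ U →
    (∀ v ∈ N, v * v = 1 → v ∈ QW B (E ∙ u)) → N = QW B (E ∙ u) := by
  intro N h1 h2 h3
  have hu : B u u = 0 := h.mx.ti u h.mem u h.mem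
  obtain ⟨f, hf, huf⟩ := h.toMo.cls.exists_hyperbolic h.ne hu
  obtain ⟨π, ι, a1, a2, -, -⟩ := UM.levi h.toHerm hu hf huf
  have st : ∀ n ∈ N, n * n ∈ QW B (E ∙ u) → n ∈ QW B (E ∙ u) := fun n hn h4 => by
    let p : Fx B (E ∙ u) := ⟨n, h.fx (h2 hn)⟩
    have b1 : π p * π p = 1 := by rw [← map_mul]; exact (a2 _).2 h4
    have b2 : n⁻¹ * ι (π p) ∈ QW B (E ∙ u) :=
      (a2 (p⁻¹ * ι (π p))).1 (by rw [map_mul, map_inv, a1, inv_mul_cancel])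
    have b3 : (ι (π p) : sIsom B) ∈ QW B (E ∙ u) :=
      h3 _ ((mul_mem_cancel_left (inv_mem hn)).1 (h1 b2)) (by
        rw [← coe_mul, ← map_mul, b1, map_one, coe_one])
    exact inv_mem_iff.1 ((mul_mem_cancel_right b3).1 b2)
  refine le_antisymm (fun n hn => ?_) h1
  obtain ⟨j, hj⟩ := Tw.of_mem h.syl.isPGroup (h2 hn)
  have : ∀ j : ℕ, n ^ 2 ^ j ∈ QW B (E ∙ u) → n ∈ QW B (E ∙ u) := fun j => by
    induction j with
    | zero => simp
    | succ j ih => exact fun c => ih (st _ (pow_mem hn _) (by rwa [← pow_two, ← pow_mul, ← pow_succ]))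
  exact this j (hj ▸ one_mem _)

end Model

end Cfsg.Lib.SUE
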