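import Cfsg.Agent.SUE.M1

/-!
# The unitary end game: the chain stabilised by a transvection
-/

set_option autoImplicit false
set_option linter.unusedSectionVars false
set_option linter.unusedVariables false

namespace Cfsg.Lib.SUE

open Subgroup Module Cfsg.Lib.Trans Cfsg.Lib.Gold Cfsg.Lib.Class.Form Cfsg.Lib.Class.FAut
open Cfsg.Lib.UM (Mo tT tE I2 I3 Fr3 Mx VW RR QW Fx St Semi Mp sg qn kk fa)
open Cfsg.Lib.AE (Cn)
open Cfsg.Lib.SG2 (Uq Top)
open Cfsg.Lib.Comp (Tw)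
open scoped commutatorElement

variable {E M : Type*} [Field E] [Finite E] [AddCommGroup M] [Module E M] [FiniteDimensional E M]
  {σ : E →+* E} {B : M →ₛₗ[σ] M →ₗ[E] E} {u x y : M} {U : Subgroup (sIsom B)} {W : Submodule E M}
  {e f : Fin 3 → M} {α : MulAut (sIsom B)} {Γ : M ≃+ M}

open UM.SYL

namespace M6

variable {w : M} {b c d : E} {g k : sIsom B}

theorem perp (h : Mo B) (y0 : y ≠ 0) (hy : B y y = 0) (hc : σ c = c) (c0 : c ≠ 0)
    (hv : tT B y c ∈ Fx B (E ∙ u)) : B y u = 0 := by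
  have e := UM.mem_Fx1.1 hv
  rw [h.lin_tT hy hc, add_eq_left, smul_eq_zero, mul_eq_zero] at e
  exact (e.resolve_right y0).resolve_left c0

theorem cm (h : Mo B) (hu : B u u = 0) (hy : B y y = 0) (hc : σ c = c)
    (hv : tT B y c ∈ Fx B (E ∙ u)) (hx : B u x = 0) (hb : b + σ b = B x x)
    (hk : IsE B 1 u x b k) : ∃ d, IsE B 1 u ((c * B y x) • y) d ⁅tT B y c, k⁆ := by
  have e := comm_E h hu hx hb hk (UM.mem_Fx1.1 hv)
  generalize B x x + _ = d at e
  rw [h.lin_tT hy hc, add_right_comm, h.vadd_self, zero_add] at e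
  exact ⟨d, e⟩

theorem mulR (h : Mo B) (hu : B u u = 0) (u0 : u ≠ 0) (hx : B u x = 0) (hg : IsE B 1 u x b g)
    (hk : IsE B 1 u w d k) (e : g⁻¹ * k ∈ RR B u) : ∃ a : E, x = w + a • u := by
  obtain ⟨c, hc, e⟩ := (h.mem_RR hu).1 e
  have e1 := hg.mul hu (h.swap hx) (map_zero _) (isT_iff_isE.1 (h.isT hu hc))
  rw [← e, mul_inv_cancel_left, add_zero] at e1
  obtain ⟨a, ha⟩ := Submodule.mem_span_singleton.1 (isE_sub h hu u0 e1 hk)
  exact ⟨a, by rw [ha, add_sub_cancel]⟩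

theorem comm (h : Mo B) (hu : B u u = 0) (u0 : u ≠ 0) (hw : B u w = 0) (hx : B u x = 0)
    (hb : b + σ b = B w w) (hk : IsE B 1 u w b k) (hg : IsE B 1 u x c g) :
    g * k = k * g ↔ σ (B x w) = B x w := by
  have s : σ (B x w + σ (B x w)) = B x w + σ (B x w) := by rw [map_add, h.ss, add_comm]
  rw [← commutatorElement_eq_one_iff_mul_comm, comm_EE h hu hw hx hb hk hg]
  refine ⟨fun e => ?_, fun e => by rw [e, h.add_self, h.tT_zero]⟩
  have := h.tT_inj hu u0 s (map_zero σ) (e.trans (h.tT_zero u).symm)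
  linear_combination this - B x w * h.two

theorem sym (h : Mo B) (x y : M) : B x y = σ (B y x) := by rw [h.sym, one_mul]

end M6

open M6

theorem m_ch (h : Mo B) (hu : B u u = 0) (u0 : u ≠ 0) : ∀ v ∈ Fx B (E ∙ u), Cn ⊤ (tT B u 1) v →
    ∀ q ∈ QW B (E ∙ u), ∀ b ∈ QW B (E ∙ u), b ∉ RR B u → b⁻¹ * ⁅v, q⁆ ∈ RR B u →
      b * b = 1 ∧ Ch (QW B (E ∙ u)) (RR B u) b v := by
  intro v hv cv q hq b hb bR e
  obtain ⟨y, c, y0, hy, hc, c0, rfl⟩ := (cn_T h hu u0).1 cv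
  have yu := perp h y0 hy hc c0 hv
  have uy : ∀ s : E, B u (s • y) = 0 := fun s => by rw [map_smul, h.swap yu, smul_zero]
  obtain ⟨x, d, hx, hd, kq⟩ := Q_isE h hu u0 hq
  obtain ⟨w, β, hw, hβ, kb⟩ := Q_isE h hu u0 hb
  obtain ⟨d', k1⟩ := cm h hu hy hc hv hx hd kq
  obtain ⟨n, rfl⟩ := mulR h hu u0 hw kb k1 e
  generalize c * B y x = l at *
  have l0 : l ≠ 0 := by
    rintro rfl
    exact bR (isE_RR kb (by simpa using Submodule.smul_mem _ n (Submodule.mem_span_singleton_self u)))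
  have w1 : ∀ x, B u x = 0 → B x (l • y + n • u) = l * σ (B y x) := fun x hx => by
    rw [map_add, map_smul, map_smul, h.swap hx, smul_zero, add_zero, sym h x y, smul_eq_mul]
  have c1 : ∀ (s : E) d g, IsE B 1 u (s • y) d g → g ∈ QW B (E ∙ u) ⊓ C1 b := fun s d g k =>
    ⟨h.isE_mem_Q hu (uy s) k, mem_C1.2 ((comm h hu u0 hw (uy s) hβ kb k).2 (by
      rw [w1 _ (uy s), map_smul, hy]; simp))⟩
  refine ⟨?_, fun g hg => ?_, fun g hg => ?_, fun g hg => ?_⟩
  · have e1 := isE_inv h hu hw hβ kb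
    rw [w1 _ hw, map_add, map_smul, map_smul, hy, yu] at hβ
    rw [show σ β = β by simpa using (by linear_combination hβ - β * h.two :
      σ β = β + l * σ (l • (0 : E) + n • 0))] at e1
    exact mul_eq_one_iff_inv_eq.2 (e1.unique kb)
  · obtain ⟨x, d, hx, hd, kq⟩ := Q_isE h hu u0 hg
    obtain ⟨d', k1⟩ := cm h hu hy hc hv hx hd kq
    exact c1 _ _ _ k1
  · obtain ⟨x, d, hx, hd, kq⟩ := Q_isE h hu u0 hg.1
    obtain ⟨d', k1⟩ := cm h hu hy hc hv hx hd kq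
    refine ⟨(c1 _ _ _ k1).1, mem_Cs.2 fun g' hg' => ?_⟩
    obtain ⟨x', d', hx', hd', kq'⟩ := Q_isE h hu u0 hg'.1
    have a1 := (comm h hu u0 hw hx hβ kb kq).1 (mem_C1.1 hg.2)
    have a2 := (comm h hu u0 hw hx' hβ kb kq').1 (mem_C1.1 hg'.2)
    rw [w1 _ hx, map_mul, h.ss] at a1
    rw [w1 _ hx', map_mul, h.ss] at a2
    refine ((comm h hu u0 hx' (uy _) hd' kq' k1).2 (mul_left_cancel₀ l0 ?_)).symm
    simp only [map_smulₛₗ, LinearMap.smul_apply, smul_eq_mul, map_mul, h.ss, hc]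
    linear_combination c * B y x' * a1 - c * B y x * a2
  · obtain ⟨x, d, hx, hd, kq⟩ := Q_isE h hu u0 hg.1
    obtain ⟨d', k1⟩ := cm h hu hy hc hv hx hd kq
    have a : ∀ s : E, s * σ (B y x) = σ s * B y x := fun s => by
      obtain ⟨d, k, -, k2, -⟩ := exists_E h hu (uy s)
      simpa only [map_smulₛₗ, LinearMap.smul_apply, smul_eq_mul, map_mul, h.ss] using
        (comm h hu u0 hx (uy s) hd kq k2).1 (mem_Cs.1 hg.2 k (c1 _ _ _ k2))
    obtain ⟨s, hs⟩ := UM.K2.exists_nf h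
    have a1 := a 1
    rw [map_one, one_mul, one_mul] at a1
    have a2 : B y x = 0 := (mul_eq_zero.1 (by linear_combination s * a1 - a s :
      (σ s - s) * B y x = 0)).resolve_left hs
    exact isE_RR k1 (by rw [a2, mul_zero, zero_smul]; exact zero_mem _)

end Cfsg.Lib.SUE
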