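import Cfsg.Agent.SUE.M1

/-!
# The end game for unitary overgroups: transvections acting on `Q / R`
-/

set_option autoImplicit false
set_option linter.unusedSectionVars false
set_option linter.unusedVariables false

namespace Cfsg.Lib.SUE

open Subgroup Module Cfsg.Lib.Trans Cfsg.Lib.Gold Cfsg.Lib.Class.Form Cfsg.Lib.Class.FAut
open Cfsg.Lib.UM (Mo tT tE I2 I3 Fr3 Mx VW RR QW Fx St Semi Mp sg qn kk fa)
open Cfsg.Lib.AE (Cn)
open Cfsg.Lib.SG2 (Uq Top)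
open Cfsg.Lib.Comp (Tw)
open scoped commutatorElement

section Model
variable {E M : Type*} [Field E] [Finite E] [AddCommGroup M] [Module E M] [FiniteDimensional E M]
  {σ : E →+* E} {B : M →ₛₗ[σ] M →ₗ[E] E} {u x y : M} {U : Subgroup (sIsom B)} {W : Submodule E M}
  {e f : Fin 3 → M} {α : MulAut (sIsom B)} {Γ : M ≃+ M}

namespace M6b

theorem sub (h : Mo B) (hu : B u u = 0) (u0 : u ≠ 0) {w w' : M} (hw : B w u = 0) {b b' : E}
    {g g' : sIsom B} (hg : IsE B 1 u w b g) (hg' : IsE B 1 u w' b' g') (hr : g⁻¹ * g' ∈ RR B u) :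
    w - w' ∈ E ∙ u := by
  obtain ⟨d, hd, e⟩ := (h.mem_RR hu).1 hr
  have k : IsE B 1 u 0 (-d) (g⁻¹ * g') := fun x => by rw [e, h.lin_tT hu hd]; simp
  have k1 := IsE.mul hu hw (map_zero _) hg k
  rw [mul_inv_cancel_left, add_zero] at k1
  exact UM.SYL.isE_sub h hu u0 k1 hg'

theorem fx (h : Mo B) (hy : B y y = 0) (y0 : y ≠ 0) {c : E} (hc : σ c = c) (c0 : c ≠ 0)
    (k : tT B y c ∈ Fx B (E ∙ u)) : B y u = 0 := by
  have := UM.mem_Fx1.1 k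
  rw [h.lin_tT hy hc] at this
  simpa [y0, c0] using this

theorem comm (h : Mo B) (hu : B u u = 0) (hy : B y y = 0) {c : E} (hc : σ c = c)
    (k : tT B y c ∈ Fx B (E ∙ u)) (hx : B u x = 0) {b : E} {q : sIsom B} (hb : b + σ b = B x x)
    (hq : IsE B 1 u x b q) : ∃ d, IsE B 1 u ((c * B y x) • y) d ⁅tT B y c, q⁆ := by
  have := UM.SYL.comm_E h hu hx hb hq (UM.mem_Fx1.1 k)
  rw [h.lin_tT hy hc, add_right_comm, h.vadd_self, zero_add] at this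
  exact ⟨_, this⟩

end M6b

theorem m_ex2 (h : Mo B) (hu : B u u = 0) (u0 : u ≠ 0) : ∀ b ∈ QW B (E ∙ u), b ∉ RR B u →
    b * b = 1 → ∃ v ∈ Fx B (E ∙ u), Cn ⊤ (tT B u 1) v ∧
      ∃ q ∈ QW B (E ∙ u), b⁻¹ * ⁅v, q⁆ ∈ RR B u := by
  intro b hb hn b2
  obtain ⟨w, β, hw, hβ, eb⟩ := UM.SYL.Q_isE h hu u0 hb
  have hw' : w ∉ E ∙ u := fun c => hn (UM.SYL.isE_RR eb c)
  have ww : B w w = 0 := by
    obtain ⟨f, -, hf⟩ := h.cls.exists_hyperbolic u0 hu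
    have := IsE.mul hu (h.swap hw) hw eb eb f
    rw [b2, h.vadd_self, h.add_self, hf] at this
    simpa [u0] using this.symm
  have k : tT B w 1 ∈ Fx B (E ∙ u) :=
    UM.mem_Fx1.2 (by rw [h.lin_tT ww (map_one σ), h.swap hw]; simp)
  obtain ⟨x, h1, h2⟩ := h.cls.exists_orth_eq_one hw'
  obtain ⟨c, q, hc, eq, hq⟩ := UM.SYL.exists_E h hu h1
  obtain ⟨d, k1⟩ := M6b.comm h hu ww (map_one σ) k h1 hc eq
  rw [h2, one_mul, one_smul] at k1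
  exact ⟨_, k, (cn_T h hu u0).2 ⟨w, 1, fun c => hw' (c ▸ zero_mem _), ww, map_one σ, one_ne_zero,
    rfl⟩, q, hq, UM.A2.mul_mem_RR h hu hw (UM.SYL.isE_inv h hu hw hβ eb) k1⟩

theorem m_same (h : Mo B) (hu : B u u = 0) (u0 : u ≠ 0) : ∀ v ∈ Fx B (E ∙ u), Cn ⊤ (tT B u 1) v →
    ∀ l : sIsom B, l * tT B u 1 * l⁻¹ ∈ Fx B (E ∙ u) → ∀ q ∈ QW B (E ∙ u), ∀ q' ∈ QW B (E ∙ u),
      ⁅v, q⁆ ∉ RR B u → ⁅v, q⁆⁻¹ * ⁅l * tT B u 1 * l⁻¹, q'⁆ ∈ RR B u →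
        ∃ y ∈ QW B (E ∙ u), y * v * y⁻¹ ∈ cj l (RR B u) := by
  intro v hv hc0 l hl q hq q' hq' hn hr
  obtain ⟨y, c, y0, hy, hc, c0, rfl⟩ := (cn_T h hu u0).1 hc0
  rw [h.tT_conj l hu (map_one σ)] at hl hr
  rw [(UM.cj_sub (UM.A2.cj_one u l)).1]
  have hy' : B (lin l u) (lin l u) = 0 := (lin_isom ..).trans hu
  generalize lin l u = y' at hl hr hy' ⊢
  obtain ⟨x, b, hx, hb, eq⟩ := UM.SYL.Q_isE h hu u0 hq
  obtain ⟨x', b', hx', hb', eq'⟩ := UM.SYL.Q_isE h hu u0 hq'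
  obtain ⟨d, k⟩ := M6b.comm h hu hy hc hv hx hb eq
  obtain ⟨d', k'⟩ := M6b.comm h hu hy' (map_one σ) hl hx' hb' eq'
  have yu := M6b.fx h hy y0 hc c0 hv
  obtain ⟨n, hm⟩ := Submodule.mem_span_singleton.1
    (M6b.sub h hu u0 (by simp [yu]) k k' hr)
  have h1 : (c * B y x) • y ∉ E ∙ u := fun a => hn (UM.SYL.isE_RR k a)
  generalize c * B y x = s at hm h1
  have s0 : s ≠ 0 := fun a => h1 (by simp [a])
  obtain ⟨w, h2, h3⟩ := h.cls.exists_orth_eq_one (fun a => h1 (Submodule.smul_mem _ s a))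
  have h4 : B w y = 1 := by rw [h.sym, h3]; simp
  obtain ⟨a, g, -, eg, hg⟩ := UM.SYL.exists_E h hu (w := σ (s⁻¹ * n) • w) (by simp [h2])
  refine ⟨g, hg, ?_⟩
  rw [h.tT_conj g hy hc]
  refine h.tT_mem ((lin_isom ..).trans hy) (Submodule.mem_span_singleton.2
    ⟨s⁻¹ * (1 * B y' x'), ?_⟩) hc
  rw [eg y, h.swap yu, map_smulₛₗ, LinearMap.smul_apply, h4, h.ss]
  have e : y = s⁻¹ • (s • y) := by rw [smul_smul, inv_mul_cancel₀ s0, one_smul]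
  linear_combination (norm := module) s⁻¹ • hm - e

end Model

end Cfsg.Lib.SUE
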