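import Cfsg.Agent.SUE.Defs
import Cfsg.Agent.UM.DS
import Cfsg.Agent.Known.SymTwo

/-!
# The end game for unitary overgroups: semilinear involutions up to `GU`-conjugacy
-/

set_option autoImplicit false
set_option linter.unusedSectionVars false
set_option linter.unusedVariables false

namespace Cfsg.Lib.SUE

open Subgroup Module Cfsg.Lib.Trans Cfsg.Lib.Gold Cfsg.Lib.Class.Form Cfsg.Lib.Class.FAut
open Cfsg.Lib.UM (Mo tT tE I2 I3 Fr3 Mx VW RR QW Fx St Semi Mp sg qn kk fa)
open Cfsg.Lib.AE (Cn)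
open Cfsg.Lib.SG2 (Uq Top)
open Cfsg.Lib.Comp (Tw)
open scoped commutatorElement

section Model
variable {E M : Type*} [Field E] [Finite E] [AddCommGroup M] [Module E M] [FiniteDimensional E M]
  {σ : E →+* E} {B : M →ₛₗ[σ] M →ₗ[E] E} {u x y : M} {U : Subgroup (sIsom B)} {W : Submodule E M}
  {e f : Fin 3 → M} {α : MulAut (sIsom B)} {Γ : M ≃+ M}

namespace GR1

theorem basis (h : Mo B) (k : Semi α Γ (sg σ)) (h2 : ∀ x, Γ (Γ x) = x) :
    ∃ b : Basis (Fin (finrank E M)) E M, ∀ i, Γ (b i) = b i := by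
  have ho : orderOf (sg σ) = 2 := orderOf_eq_prime (by rw [pow_two, h.sg_sq]) h.sg_ne
  exact UM.descent (sg σ) Γ k.smul fun x => by rw [ho]; exact h2 x

theorem sum (h : Mo B) (k : Semi α Γ (sg σ)) {ι : Type*} [Fintype ι] {b : ι → M}
    (hb : ∀ i, Γ (b i) = b i) (a : ι → E) : Γ (∑ i, a i • b i) = ∑ i, σ (a i) • b i := by
  rw [map_sum]
  exact Finset.sum_congr rfl fun j _ => by rw [k.smul, hb, h.sg_apply]

theorem charP (h : Mo B) : CharP (σ.eqLocusField (RingHom.id E)) 2 :=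
  CharTwo.of_one_ne_zero_of_two_eq_zero one_ne_zero (Subtype.ext h.two)

theorem aux (h : Mo B) (k : Semi α Γ (sg σ)) (h2 : ∀ x, Γ (Γ x) = x) :
    ∃ (b : Basis (Fin (finrank E M)) E M)
      (D : LinearMap.BilinForm (σ.eqLocusField (RingHom.id E))
        (Fin (finrank E M) → σ.eqLocusField (RingHom.id E))), (∀ i, Γ (b i) = b i) ∧
      (∀ x y, (D x y : E) = B (∑ i, (x i : E) • b i) (∑ i, (y i : E) • b i)) ∧
      Known.SymND D ∧ (D.IsAlt ↔ Alt B Γ) := by
  classical
  obtain ⟨b, hb⟩ := basis h k h2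
  have fK : ∀ a : σ.eqLocusField (RingHom.id E), σ a = a := fun a => a.2
  have fx : ∀ x : Fin (finrank E M) → σ.eqLocusField (RingHom.id E),
      Γ (∑ i, (x i : E) • b i) = ∑ i, (x i : E) • b i := fun x => by
    simp only [sum h k hb, fK]
  let D : LinearMap.BilinForm (σ.eqLocusField (RingHom.id E))
      (Fin (finrank E M) → σ.eqLocusField (RingHom.id E)) := LinearMap.mk₂ _
    (fun x y => ⟨B (∑ i, (x i : E) • b i) (∑ i, (y i : E) • b i), by
      change σ _ = _
      rw [← h.sg_apply, ← k.form, fx, fx]; rfl⟩)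
    (fun x y z => Subtype.ext (by
      change B (∑ i, ((x i : E) + y i) • b i) _ = B _ _ + B _ _
      simp only [add_smul, Finset.sum_add_distrib]
      rw [LinearMap.map_add₂]))
    (fun c x y => Subtype.ext (by
      change B (∑ i, ((c : E) * x i) • b i) _ = c * B _ _
      simp only [mul_smul, ← Finset.smul_sum]
      rw [LinearMap.map_smulₛₗ₂, fK, smul_eq_mul]))
    (fun x y z => Subtype.ext (by
      change B _ (∑ i, ((y i : E) + z i) • b i) = B _ _ + B _ _
      simp only [add_smul, Finset.sum_add_distrib]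
      rw [map_add]))
    (fun c x y => Subtype.ext (by
      change B _ (∑ i, ((c : E) * y i) • b i) = c * B _ _
      simp only [mul_smul, ← Finset.smul_sum]
      rw [map_smul, smul_eq_mul]))
  have hD : ∀ x y, (D x y : E) = B (∑ i, (x i : E) • b i) (∑ i, (y i : E) • b i) := fun _ _ => rfl
  have e1 : ∀ j, ∑ i, ((Pi.single j 1 : Fin (finrank E M) → σ.eqLocusField (RingHom.id E)) i : E) •
      b i = b j := fun j => by
    rw [Finset.sum_eq_single j (fun i _ hi => by simp [hi]) (by simp)]; simp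
  refine ⟨b, D, hb, hD, ⟨fun x y => Subtype.ext ?_, fun x hx => ?_⟩, fun c x hx => ?_,
    fun c x => Subtype.ext ((hD x x).trans (c _ (fx x)))⟩
  · rw [hD, h.sym, one_mul, ← hD, fK]
  · have : ∑ i, (x i : E) • b i = 0 := h.sep _ fun y => by
      have : B (∑ i, (x i : E) • b i) = 0 := b.ext fun i => by
        rw [← e1 i, ← hD, hx]; rfl
      rw [this, LinearMap.zero_apply]
    exact funext fun i => Subtype.ext (Fintype.linearIndependent_iff.1 b.linearIndependent _ this i)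
  · have e : ∀ i, σ (b.repr x i) = b.repr x i := fun i => by
      have e1 := sum h k hb (b.repr x)
      rw [b.sum_repr, hx] at e1
      conv_rhs => rw [e1]
      simp [Finsupp.single_apply]
    have := hD (fun i => ⟨_, e i⟩) fun i => ⟨_, e i⟩
    rw [c, b.sum_repr] at this
    exact this.symm

end GR1

theorem gr_isom (h : Mo B) {α' : MulAut (sIsom B)} {Γ' : M ≃+ M} (k : Semi α Γ (sg σ))
    (k' : Semi α' Γ' (sg σ)) (h2 : ∀ x, Γ (Γ x) = x) (h2' : ∀ x, Γ' (Γ' x) = x)
    (ty : Alt B Γ ↔ Alt B Γ') :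
    ∃ g : isomGroup B, ∀ x, Γ' ((g : M ≃ₗ[E] M) x) = (g : M ≃ₗ[E] M) (Γ x) := by
  classical
  have := GR1.charP h
  obtain ⟨b, D, hb, hD, s, a⟩ := GR1.aux h k h2
  obtain ⟨b', D', hb', hD', s', a'⟩ := GR1.aux h k' h2'
  obtain ⟨φ, hφ⟩ := s.exists_equiv s' rfl (a.trans (ty.trans a'.symm))
  have e1 : ∀ j, ∑ i, ((Pi.single j 1 : Fin (finrank E M) → σ.eqLocusField (RingHom.id E)) i : E) •
      b i = b j := fun j => by
    rw [Finset.sum_eq_single j (fun i _ hi => by simp [hi]) (by simp)]; simp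
  obtain ⟨c, hc⟩ : ∃ c : Fin (finrank E M) → M, ∀ j, c j = ∑ i, (φ (Pi.single j 1) i : E) • b' i :=
    ⟨_, fun _ => rfl⟩
  have c1 : ∀ i j, B (c i) (c j) = B (b i) (b j) := fun i j => by
    rw [hc, hc, ← hD', hφ, hD, e1, e1]
  have c2 : ∀ j, Γ' (c j) = c j := fun j => by
    rw [hc, GR1.sum h k' hb']
    exact Finset.sum_congr rfl fun i _ => congrArg (· • b' i) (φ (Pi.single j 1) i).2
  have hg : ∀ a : Fin (finrank E M) → E, b.constr E c (∑ i, a i • b i) = ∑ i, a i • c i := fun a => by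
    simp
  have hi : ∀ x y, B (b.constr E c x) (b.constr E c y) = B x y := fun x y => by
    rw [← b.sum_repr x, ← b.sum_repr y, hg, hg]
    simp only [map_sum, LinearMap.map_smulₛₗ, LinearMap.sum_apply, LinearMap.smul_apply, c1]
  refine ⟨h.ofLin _ hi, fun x => ?_⟩
  change Γ' (b.constr E c x) = b.constr E c (Γ x)
  rw [← b.sum_repr x, GR1.sum h k hb, hg, hg, GR1.sum h k' c2]

theorem gr_odd (h : Mo B) (k : Semi α Γ (sg σ)) (h2 : ∀ x, Γ (Γ x) = x) (ho : Odd (finrank E M)) :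
    ¬ Alt B Γ := fun c => by
  have := GR1.charP h
  obtain ⟨b, D, -, -, s, a⟩ := GR1.aux h k h2
  have := s.even_of_isAlt (a.2 c)
  rw [finrank_fin_fun] at this
  exact Nat.not_even_iff_odd.2 ho this

end Model

end Cfsg.Lib.SUE
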