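import Cfsg.Agent.SUE.T0

/-!
# The end game for unitary overgroups in characteristic two: transfer of the subgroup facts
-/

set_option autoImplicit false
set_option linter.unusedSectionVars false
set_option linter.unusedVariables false

namespace Cfsg.Lib.SUE

open Subgroup Module Cfsg.Lib.Trans Cfsg.Lib.Gold Cfsg.Lib.Class.Form Cfsg.Lib.Class.FAut
open Cfsg.Lib.UM (Mo tT tE I2 I3 Fr3 Mx VW RR QW Fx St Semi Mp sg qn kk fa)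
open Cfsg.Lib.AE (Cn)
open Cfsg.Lib.SG2 (Uq Top)
open Cfsg.Lib.Comp (Tw)
open scoped commutatorElement

section Abstract
variable {G H : Type*} [Group G] [Finite G] [Group H] [Finite H]

section TK
variable {ψ : H →* G} {U P Q R N : Subgroup H} {z a a' w v : H}

theorem T1.QP (h : FI ⊤ U P Q R z a a' w) : Q ≤ P := h.QU.trans h.UP

theorem T1.RP (h : FI ⊤ U P Q R z a a' w) : R ≤ P := h.RQ.trans (T1.QP h)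

theorem T1.ns (k : TK ψ P) (hN : N ≤ P) (hQ : Q ≤ P) (h : Q.map ψ ≤ Ns (N.map ψ)) : Q ≤ Ns N :=
  fun _ hq => (k.Ns hN (hQ hq)).1 (h (mem_map_of_mem ψ hq))

theorem T1.inv (k : TK ψ P) (hN : N ≤ P) (hQ : Q ≤ P)
    (h : ∀ v ∈ N.map ψ, v * v = 1 → v ∈ Q.map ψ) : ∀ v ∈ N, v * v = 1 → v ∈ Q := fun v hv v2 =>
  (k.mem hQ (hN hv)).1 (h _ (mem_map_of_mem ψ hv) (by rw [← map_mul, v2, map_one]))

theorem FI.map_irr (h : FI ⊤ U P Q R z a a' w) (k : TK ψ P) : ∀ N : Subgroup G, R.map ψ ≤ N →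
    N ≤ Q.map ψ → P.map ψ ≤ Ns N → N = R.map ψ ∨ N = Q.map ψ := fun N h1 h2 h3 => by
  obtain ⟨N, hN, rfl⟩ := k.sub (h2.trans (map_mono (T1.QP h)))
  exact (h.irr N ((k.le (T1.RP h) hN).1 h1) ((k.le hN (T1.QP h)).1 h2) (T1.ns k hN le_rfl h3)).imp
    (congrArg _) (congrArg _)

theorem FI.map_f7Q (h : FI ⊤ U P Q R z a a' w) (k : TK ψ P) : ∀ N : Subgroup G, Q.map ψ ≤ N →
    N ≤ U.map ψ → (∀ v ∈ N, v * v = 1 → v ∈ Q.map ψ) → N = Q.map ψ := fun N h1 h2 h3 => by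
  obtain ⟨N, hN, rfl⟩ := k.sub (h2.trans (map_mono h.UP))
  rw [h.f7Q N ((k.le (T1.QP h) hN).1 h1) ((k.le hN h.UP).1 h2) (T1.inv k hN (T1.QP h) h3)]

theorem FI.map_f7R (h : FI ⊤ U P Q R z a a' w) (k : TK ψ P) : ∀ N : Subgroup G, R.map ψ ≤ N →
    N ≤ U.map ψ → U.map ψ ≤ Ns N → (∀ v ∈ N, v * v = 1 → v ∈ R.map ψ) → N = R.map ψ :=
  fun N h1 h2 h3 h4 => by
  obtain ⟨N, hN, rfl⟩ := k.sub (h2.trans (map_mono h.UP))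
  rw [h.f7R N ((k.le (T1.RP h) hN).1 h1) ((k.le hN h.UP).1 h2) (T1.ns k hN h.UP h3)
    (T1.inv k hN (T1.RP h) h4)]

theorem FI.map_qs (h : FI ⊤ U P Q R z a a' w) (k : TK ψ P) : ∀ N : Subgroup G, Q.map ψ ≤ N →
    N ≤ P.map ψ → P.map ψ ≤ Ns N → ⁅N, P.map ψ⁆ ≤ Q.map ψ ∨ N = P.map ψ := fun N h1 h2 h3 => by
  obtain ⟨N, hN, rfl⟩ := k.sub h2
  refine (h.qs N ((k.le (T1.QP h) hN).1 h1) hN (T1.ns k hN le_rfl h3)).imp (fun e => ?_) (congrArg _)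
  rw [← map_commutator]
  exact map_mono e

theorem FI.map_sp2 (h : FI ⊤ U P Q R z a a' w) (k : TK ψ P) : ∀ T : Subgroup G, R.map ψ ≤ T →
    T ≤ Q.map ψ → ψ a ∈ T → ψ a' ∈ T → P.map ψ ⊓ C1 (ψ a) ≤ Ns T → P.map ψ ⊓ C1 (ψ a') ≤ Ns T →
      T = Q.map ψ := fun N h1 h2 h3 h4 h5 h6 => by
  obtain ⟨N, hN, rfl⟩ := k.sub (h2.trans (map_mono (T1.QP h)))
  rw [k.C1 le_rfl ((T1.QP h) h.aQ)] at h5
  rw [k.C1 le_rfl ((T1.QP h) h.bQ)] at h6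
  rw [h.sp2 N ((k.le (T1.RP h) hN).1 h1) ((k.le hN (T1.QP h)).1 h2) ((k.mem hN ((T1.QP h) h.aQ)).1 h3)
    ((k.mem hN ((T1.QP h) h.bQ)).1 h4) (T1.ns k hN inf_le_left h5) (T1.ns k hN inf_le_left h6)]

theorem T1.cn (c : Cn ⊤ z v) : Cn ψ.range (ψ z) (ψ v) := by
  obtain ⟨l, -, rfl⟩ := c
  exact ⟨ψ l, ⟨l, rfl⟩, by simp⟩

theorem FI.map_conn (h : FI ⊤ U P Q R z a a' w) (k : TK ψ P) : ∀ A : Subgroup G, ψ z ∈ A →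
    (∀ d d', Cn ψ.range (ψ z) d → Cn ψ.range (ψ z) d' → Commute d d' → d ∈ A → d' ∈ A) →
      ψ.range ≤ A := fun A h1 h2 => by
  rintro _ ⟨g, rfl⟩
  exact h.conn (A.comap ψ) h1
    (fun d d' c c' e m => h2 _ _ (T1.cn c) (T1.cn c') (e.map ψ) m) (mem_top g)

theorem T1.cm (k : TK ψ P) (hN : N ≤ P) {b q : H} (hb : b ∈ P) (hv : v ∈ P) (hq : q ∈ P) :
    (ψ b)⁻¹ * ⁅ψ v, ψ q⁆ ∈ N.map ψ ↔ b⁻¹ * ⁅v, q⁆ ∈ N := by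
  rw [← map_commutatorElement, ← map_inv, ← map_mul]
  exact k.mem hN (mul_mem (inv_mem hb) (T0.cm hv hq))

theorem FI.map_ch (h : FI ⊤ U P Q R z a a' w) (k : TK ψ P) : ∀ v ∈ P.map ψ, Cn ψ.range (ψ z) v →
    ∀ q ∈ Q.map ψ, ∀ b ∈ Q.map ψ, b ∉ R.map ψ → b⁻¹ * ⁅v, q⁆ ∈ R.map ψ →
      b * b = 1 ∧ Ch (Q.map ψ) (R.map ψ) b v := by
  rintro _ ⟨v, hv, rfl⟩ c _ ⟨q, hq, rfl⟩ _ ⟨b, hb, rfl⟩ h1 h2
  obtain ⟨e, c1, c2, c3⟩ := h.ch v hv ((k.cn (h.el z h.zR) hv).1 c) q hq b hb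
    (fun m => h1 (mem_map_of_mem ψ m)) ((T1.cm k (T1.RP h) ((T1.QP h) hb) hv ((T1.QP h) hq)).1 h2)
  have l1 : Q ⊓ C1 b ≤ P := inf_le_left.trans (T1.QP h)
  have l2 : Q ⊓ Cs (Q ⊓ C1 b) ≤ P := inf_le_left.trans (T1.QP h)
  refine ⟨by rw [← map_mul, e, map_one], ?_⟩
  rw [Ch, k.C1 (T1.QP h) ((T1.QP h) hb), k.Cs (T1.QP h) l1]
  exact ⟨(k.Sb (T1.QP h) l1 hv).2 c1, (k.Sb l1 l2 hv).2 c2, (k.Sb l2 (T1.RP h) hv).2 c3⟩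

theorem FI.map_same (h : FI ⊤ U P Q R z a a' w) (k : TK ψ P) : ∀ v ∈ P.map ψ,
    Cn ψ.range (ψ z) v → ∀ l ∈ ψ.range, l * ψ z * l⁻¹ ∈ P.map ψ → ∀ q ∈ Q.map ψ, ∀ q' ∈ Q.map ψ,
      ⁅v, q⁆ ∉ R.map ψ → ⁅v, q⁆⁻¹ * ⁅l * ψ z * l⁻¹, q'⁆ ∈ R.map ψ →
        ∃ y ∈ Q.map ψ, y * v * y⁻¹ ∈ cj l (R.map ψ) := by
  rintro _ ⟨v, hv, rfl⟩ c _ ⟨l, rfl⟩ h1 _ ⟨q, hq, rfl⟩ _ ⟨q', hq', rfl⟩ h2 h3
  rw [← map_inv, ← map_mul, ← map_mul] at h1 h3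
  rw [← map_commutatorElement] at h2 h3
  have h4 := (k.mem2 (Comp.conj_sq (h.el z h.zR) l)).1 h1
  obtain ⟨y, hy, e⟩ := h.same v hv ((k.cn (h.el z h.zR) hv).1 c) l trivial h4 q hq q' hq'
    (fun m => h2 (mem_map_of_mem ψ m)) ((T1.cm k (T1.RP h) (T0.cm hv ((T1.QP h) hq)) h4 ((T1.QP h) hq')).1 h3)
  refine ⟨_, mem_map_of_mem ψ hy, ?_⟩
  rw [← map_cj, ← map_inv, ← map_mul, ← map_mul]
  exact mem_map_of_mem ψ e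

end TK

end Abstract

end Cfsg.Lib.SUE
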